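/-
The Sylow 2-subgroup of a frame decides the family.
-/
import Cfsg.Agent.BenderSE.Dependents.Frame
import Cfsg.Agent.BenderSuzuki.RootGroup

set_option autoImplicit false
set_option linter.unusedSectionVars false
set_option linter.style.haveILetI false

namespace Cfsg.Lib.BenderSE.Ring2

open Subgroup MulAction Cfsg.Lib.InvolCalc Cfsg.Lib.StrongEmb

universe u

variable {G : Type u} [Group G] [Finite G] {H L Q : Subgroup G}

theorem frame_rankOne (F : Frame H L Q) (hS : Setting H) :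
    ∃ t : L, Cfsg.Lib.BenderSuzuki.Simple L (L ⧸ H.subgroupOf L) ((1 : L) : L ⧸ H.subgroupOf L) t
        (Q.subgroupOf L) ∧
      Cfsg.Lib.BenderSuzuki.qNum L ((1 : L) : L ⧸ H.subgroupOf L) =
        Nat.card {i : G // orderOf i = 2 ∧ i ∈ H} + 1 := by
  haveI := F.simple
  set K := H.subgroupOf L
  have hH := hS.se
  obtain ⟨i₀, hi₀H, hi₀⟩ := exists_involution_of_even hH.2.1
  have hKSE : Cfsg.IsStronglyEmbedded K := by
    refine ⟨fun h => hH.1 ?_, ?_, fun g hg => ?_⟩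
    · haveI := F.normal
      have h0 : L = ⊥ := le_bot_iff.1 (hS.core ▸ normal_le_normalCore.2 (subgroupOf_eq_top.1 h))
      have h1 := F.invol i₀ hi₀
      rw [h0, mem_bot] at h1
      rw [h1, orderOf_one] at hi₀; omega
    · exact even_iff_two_dvd.2 (hi₀ ▸ (Subgroup.orderOf_mk i₀ (F.invol i₀ hi₀)).symm ▸
        Subgroup.orderOf_dvd_natCard K (show (⟨i₀, F.invol i₀ hi₀⟩ : L) ∈ K from hi₀H))
    · refine (hH.2.2 g hg).of_dvd_nat ?_
      rw [← card_map_of_injective L.subtype_injective]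
      refine card_dvd_of_le ?_
      rintro _ ⟨x, ⟨hx, y, hy, hxy⟩, rfl⟩
      exact ⟨hx, y, hy, congrArg Subtype.val hxy⟩
  obtain ⟨p, q, hp, hq, hne, hc⟩ := hS.rank2
  have hp' : orderOf (⟨p, F.invol p hp⟩ : L) = 2 := (Subgroup.orderOf_mk _ _).trans hp
  have hq' : orderOf (⟨q, F.invol q hq⟩ : L) = 2 := (Subgroup.orderOf_mk _ _).trans hq
  have hQn : ((Q.subgroupOf L).subgroupOf K).Normal := by
    refine (normal_subgroupOf_iff_le_normalizer (show Q.subgroupOf L ≤ K from fun x hx => F.qle hx)).2 fun x hx => ?_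
    exact mem_normalizer_iff.2 fun y => (mem_normalizer_iff.1 (F.qn hx) (y : G))
  obtain ⟨t, ht, ht2⟩ := Cfsg.Lib.BenderSuzuki.exists_invol_out K hKSE
  have hset := Cfsg.Lib.BenderSuzuki.embedded_setup K hKSE (Q.subgroupOf L) (fun x hx => F.qle hx) hQn
    (fun g₁ g₂ h₁ h₂ => by
      obtain ⟨v, hv, h⟩ := F.trans g₁ g₂ h₁ h₂
      exact ⟨⟨v, F.qL hv⟩, hv, h⟩)
    (fun g hg v hv h => Subtype.ext (F.reg g hg v hv h)) ht ht2
  haveI : FaithfulSMul L (L ⧸ K) := by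
    constructor
    intro x y h
    have hk : y⁻¹ * x ∈ K.normalCore := by
      rw [Subgroup.normalCore_eq_ker, MonoidHom.mem_ker]
      refine Equiv.ext fun r => ?_
      show (y⁻¹ * x) • r = r
      rw [mul_smul, h r, inv_smul_smul]
    rw [normalCore_eq_bot_of_simple hKSE, mem_bot, inv_mul_eq_one] at hk
    exact hk.symm
  have hne1 : ∀ {x : L}, orderOf x = 2 → x ≠ 1 := fun {x} hx e => by
    rw [e, orderOf_one] at hx; omega
  refine ⟨t, ⟨hset, inferInstance, ⟨⟨p, F.invol p hp⟩, ⟨q, F.invol q hq⟩, hne1 hp', hne1 hq',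
    fun e => hne (congrArg Subtype.val e), sq_of_order_two hp', sq_of_order_two hq', Subtype.ext hc⟩,
    inferInstance⟩, ?_⟩
  rw [Cfsg.Lib.BenderSuzuki.qNum]
  refine congrArg (· + 1) (Nat.card_congr
    ⟨fun i => ⟨((i.1 : L) : G), ?_, ?_⟩, fun i => ⟨⟨i.1, F.invol i.1 i.2.1⟩, ?_, ?_, ?_⟩,
      fun _ => rfl, fun _ => rfl⟩)
  · have h := i.2
    rw [Subgroup.orderOf_coe]
    exact order_two_of_mul_self h.2.2 h.2.1
  · have h : i.1 ∈ stabilizer L ((1 : L) : L ⧸ K) := i.2.1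
    rw [MulAction.stabilizer_quotient] at h
    exact h
  · show (⟨i.1, F.invol i.1 i.2.1⟩ : L) ∈ stabilizer L ((1 : L) : L ⧸ K)
    rw [MulAction.stabilizer_quotient]
    exact i.2.2
  · intro e
    have h := i.2.1
    rw [show i.1 = 1 from congrArg Subtype.val e, orderOf_one] at h
    omega
  · exact Subtype.ext (sq_of_order_two i.2.1)

/-- an abelian `Q` is elementary -/
theorem frame_elementary_of_abelian (F : Frame H L Q) (hS : Setting H)
    (hab : ∀ x ∈ Q, ∀ y ∈ Q, x * y = y * x) : ∀ x ∈ Q, x * x = 1 := by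
  haveI := F.simple
  obtain ⟨t, hs, -⟩ := frame_rankOne F hS
  have hgood := Cfsg.Lib.BenderSuzuki.ih_of_unitary Cfsg.Lib.BenderSuzuki.unitaryStep (Nat.card L + 1)
    L _ _ t _ (Nat.lt_succ_self _) hs
  rcases hgood.dich with ⟨-, h⟩ | ⟨-, -, x, hx, y, hy, h⟩ | ⟨-, -, ⟨x, hx, y, hy, h⟩, -⟩
  · intro x hx
    have e : Cfsg.Lib.BenderSuzuki.zGroup hs = Q.subgroupOf L := Subgroup.eq_of_le_of_card_ge
      (Cfsg.Lib.BenderSuzuki.zGroup_le hs) (by rw [Cfsg.Lib.BenderSuzuki.card_zGroup hs, h])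
    exact congrArg Subtype.val
      (Cfsg.Lib.RankOne.involGroup_sq hs.setup hs.two (e.ge (show (⟨x, F.qL hx⟩ : L) ∈ Q.subgroupOf L from hx)))
  · exact absurd (Subtype.ext (hab _ hx _ hy)) h
  · exact absurd (Subtype.ext (hab _ hx _ hy)) h

/-- `|Q| = q³`: the unitary group -/
theorem frame_unitary_of_cube (F : Frame H L Q) (hS : Setting H)
    (hQ : Nat.card Q = (Nat.card {i : G // orderOf i = 2 ∧ i ∈ H} + 1) ^ 3) :
    ∃ (E : Type) (_ : Field E) (_ : Fintype E),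
      Fintype.card E = (Nat.card {i : G // orderOf i = 2 ∧ i ∈ H} + 1) ^ 2 ∧
      Nonempty (L ≃* Cfsg.PSU 3 E (Nat.card {i : G // orderOf i = 2 ∧ i ∈ H} + 1)) := by
  haveI := F.simple
  obtain ⟨t, hs, hq⟩ := frame_rankOne F hS
  have hgood := Cfsg.Lib.BenderSuzuki.ih_of_unitary Cfsg.Lib.BenderSuzuki.unitaryStep (Nat.card L + 1)
    L _ _ t _ (Nat.lt_succ_self _) hs
  have hQ' : Nat.card (Q.subgroupOf L) = Cfsg.Lib.BenderSuzuki.qNum L ((1 : L) : L ⧸ H.subgroupOf L) ^ 3 := by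
    rw [Nat.card_congr (subgroupOfEquivOfLe F.qL).toEquiv, hQ, hq]
  obtain ⟨k, hk, hqk⟩ := Cfsg.Lib.BenderSuzuki.qNum_pow hs
  have h4 : 2 ≤ Cfsg.Lib.BenderSuzuki.qNum L ((1 : L) : L ⧸ H.subgroupOf L) := by
    rw [hqk]; exact Nat.le_self_pow (by omega) 2
  rcases hgood.dich with ⟨-, h⟩ | ⟨-, h, -⟩ | ⟨hL, -, hna, hV⟩
  · exact absurd (h.symm.trans hQ') (Nat.ne_of_lt (lt_self_pow₀ h4 (by norm_num)))
  · exact absurd (h.symm.trans hQ') (Nat.ne_of_lt (Nat.pow_lt_pow_right h4 (by norm_num)))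
  have hIH := Cfsg.Lib.BenderSuzuki.ih_of_unitary Cfsg.Lib.BenderSuzuki.unitaryStep.{u, u} (Nat.card L)
  obtain ⟨F', E, _, _, _, _, _, _, ⟨Fr⟩⟩ :=
    (Cfsg.Lib.BenderSuzuki.U3.Input.of_step hs hIH hL hQ' hna hV).exists_frame
  obtain ⟨M⟩ := Fr.exists_muData
  obtain ⟨A, B, h⟩ := Fr.exists_closed M (Fr.wi_mem_centI M) (Fr.twoStab_eq M) (Fr.norm_bi_eq M)
  haveI := h.input.sim.simple
  obtain ⟨ψ, hψ⟩ := h.exists_embedding
  obtain ⟨x, -, y, -, hxy⟩ := h.input.nonab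
  obtain ⟨e⟩ := Cfsg.Lib.BenderSuzuki.U3.iso_psu_of_embedding Fr.D ⟨x, y, hxy⟩ ψ hψ h.card_le
  refine ⟨E, inferInstance, inferInstance, ?_, ?_⟩
  · rw [← hq, ← h.q_eq]
    exact Fr.D.hF
  · rw [← hq, ← h.q_eq]
    exact ⟨e⟩

end Cfsg.Lib.BenderSE.Ring2
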