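/-
Second ring of dependents: groups all of whose involution centralisers are solvable.
-/
import Cfsg.Agent.BenderSE.Dependents.FourConnected
import Cfsg.Agent.Components.Quasisimple
import Cfsg.Agent.InvolCalc.StronglyEmbedded

set_option autoImplicit false
set_option linter.unusedSectionVars false
set_option linter.style.haveILetI false

namespace Cfsg.Lib.BenderSE.Ring2

open Subgroup Cfsg.Lib.InvolCalc Cfsg.Lib.StrongEmb

universe u

variable {G : Type u} [Group G] [Finite G]

/-- `N(R)` controls the fusion of the involutions of `R` and absorbs their centralisers -/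
theorem normal_or_embedded {M : Subgroup G} (S : Sylow 2 G) (hS : (S : Subgroup G) ≤ M)
    (h2 : Even (Nat.card G))
    (hC : ∀ t ∈ (S : Subgroup G), orderOf t = 2 → centralizer ({t} : Set G) ≤ M)
    (hfus : ∀ t ∈ (S : Subgroup G), ∀ s ∈ (S : Subgroup G), orderOf t = 2 → ∀ g : G, g * t * g⁻¹ = s →
      ∃ n ∈ M, n * t * n⁻¹ = s) :
    M = ⊤ ∨ Cfsg.IsStronglyEmbedded M := by
  haveI : Fact (Nat.Prime 2) := ⟨Nat.prime_two⟩
  refine (em (M = ⊤)).imp_right fun hne => ?_
  have hidx : ¬ 2 ∣ (S : Subgroup G).index := S.not_dvd_index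
  have hMev : Even (Nat.card M) := by
    refine even_iff_two_dvd.2 (dvd_trans ?_ (card_dvd_of_le hS))
    rcases (Nat.prime_two.dvd_mul.1 ((S : Subgroup G).card_mul_index ▸ h2.two_dvd)) with h | h
    · exact h
    · exact absurd h hidx
  have key : ∀ t ∈ M, orderOf t = 2 → ∃ m ∈ M, m * t * m⁻¹ ∈ (S : Subgroup G) := by
    intro t htM ht
    have hP : IsPGroup 2 (zpowers (⟨t, htM⟩ : M)) :=
      IsPGroup.of_card (n := 1) (by rw [pow_one, Nat.card_zpowers, Subgroup.orderOf_mk, ht])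
    obtain ⟨Q, hQ⟩ := hP.exists_le_sylow
    obtain ⟨g, hg⟩ := MulAction.exists_smul_eq M Q (S.subtype hS)
    refine ⟨g, g.2, ?_⟩
    have h1 : g * (⟨t, htM⟩ : M) * g⁻¹ ∈ (S.subtype hS : Sylow 2 M) := by
      rw [← hg]
      exact ⟨_, hQ (mem_zpowers _), rfl⟩
    exact h1
  refine of_conditions hne hMev (fun t htM ht => ?_) fun t htM s hsM ht hs hts => ?_
  · obtain ⟨m, hm, hmS⟩ := key t htM ht
    intro x hx
    have h1 : m * x * m⁻¹ ∈ centralizer ({m * t * m⁻¹} : Set G) := mem_centralizer_singleton_iff.2 (by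
      rw [show m * x * m⁻¹ * (m * t * m⁻¹) = m * (x * t) * m⁻¹ by group,
        mem_centralizer_singleton_iff.1 hx]
      group)
    have h2 := mul_mem (mul_mem (inv_mem hm) (hC _ hmS (by rw [orderOf_conj', ht]) h1)) hm
    simpa [mul_assoc] using h2
  · obtain ⟨m, hm, hmS⟩ := key t htM ht
    obtain ⟨m', hm', hmS'⟩ := key s hsM hs
    obtain ⟨g, hg⟩ := isConj_iff.1 hts
    obtain ⟨n, hn, hne'⟩ := hfus _ hmS _ hmS' (by rw [orderOf_conj', ht]) (m' * g * m⁻¹) (by rw [← hg]; group)
    refine ⟨m'⁻¹ * n * m, mul_mem (mul_mem (inv_mem hm') hn) hm, ?_⟩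
    calc m'⁻¹ * n * m * t * (m'⁻¹ * n * m)⁻¹ = m'⁻¹ * (n * (m * t * m⁻¹) * n⁻¹) * m' := by group
      _ = s := by rw [hne']; group

/-- solvable involution centralisers: not of component type -/
theorem nonComponent_of_solvable
    (h : ∀ t : G, orderOf t = 2 → Group.IsSolvable (centralizer ({t} : Set G))) :
    ¬ Cfsg.IsComponentType G := by
  rintro ⟨t, ht, K, -, hK⟩
  haveI := h t ht
  exact Cfsg.Lib.Components.qs_not_isSolvable hK inferInstance

/-- solvable involution centralisers, large connected Sylow 2-subgroup: every involution centraliser has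
characteristic 2 -/
theorem charTwo_centralizer (reg : RegProp.{u}) (hO : Cfsg.oddCore G = ⊥) (h3 : ¬ Cfsg.PRankLE 2 2 G)
    (S : Sylow 2 G) (hS : Cfsg.IsFourConnected (S : Subgroup G))
    (h : ∀ t : G, orderOf t = 2 → Group.IsSolvable (centralizer ({t} : Set G))) {t : G} (ht : orderOf t = 2) :
    Cfsg.IsOfCharacteristicTwo (centralizer ({t} : Set G)) := by
  have h1 := (FourConn.noncomponent_charTwo_of_reg reg h3 hO (nonComponent_of_solvable h) S hS).2
  have hz : IsPGroup 2 (zpowers t) := IsPGroup.of_card (n := 1) (by rw [pow_one, Nat.card_zpowers, ht])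
  have hne : zpowers t ≠ ⊥ := fun e => by
    rw [zpowers_eq_bot] at e
    rw [e, orderOf_one] at ht
    omega
  have hN : normalizer (zpowers t : Set G) = centralizer ({t} : Set G) := by
    refine le_antisymm (fun g hg => mem_centralizer_singleton_iff.2 ?_) ?_
    · obtain ⟨k, hk⟩ := mem_zpowers_iff.1 ((mem_normalizer_iff.1 hg t).1 (mem_zpowers t))
      have hk' : g * t * g⁻¹ = t ^ (k % 2) := by
        rw [← hk, ← zpow_mod_orderOf t k, ht]; rfl
      rcases Int.emod_two_eq_zero_or_one k with e | e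
      · rw [e, zpow_zero] at hk'
        have : t = 1 := by simpa [mul_assoc] using congrArg (fun z => g⁻¹ * z * g) hk'
        rw [this, orderOf_one] at ht
        omega
      · rw [e, zpow_one] at hk'
        exact mul_inv_eq_iff_eq_mul.1 hk'
    · rw [zpowers_eq_closure, ← centralizer_closure]
      exact centralizer_le_normalizer _
  have h2 := h1 _ hz hne
  rwa [hN] at h2

/-- a subgroup of a characteristic 2 group inside the Sylow subgroup and containing `O_2` -/
theorem le_normalizer_of_charTwo {C : Subgroup G} (hC : Cfsg.IsOfCharacteristicTwo C) (S : Sylow 2 G)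
    (hSC : (S : Subgroup G) ≤ C) (Z : Subgroup G) (hZ : Z ≤ (S : Subgroup G))
    (hZc : ∀ z ∈ Z, ∀ s ∈ (S : Subgroup G), s * z = z * s) :
    ∃ R : Subgroup G, R ≤ (S : Subgroup G) ∧ Z ≤ R ∧ C ≤ normalizer (R : Set G) := by
  haveI : Fact (Nat.Prime 2) := ⟨Nat.prime_two⟩
  set Q := Cfsg.pCore 2 C
  haveI : Q.Normal := Cfsg.Lib.Components.pCore_normal' 2
  have hQS : Q ≤ (S.subtype hSC : Sylow 2 C) :=
    Cfsg.Lib.Thompson.le_sylow_of_normal (Cfsg.Lib.Components.isPGroup_pCore 2) _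
  refine ⟨Q.map C.subtype, ?_, ?_, ?_⟩
  · rintro _ ⟨x, hx, rfl⟩
    exact hQS hx
  · intro z hz
    refine ⟨⟨z, hSC (hZ hz)⟩, hC (mem_centralizer_iff.2 fun y hy => Subtype.ext ?_), rfl⟩
    exact hZc z hz y (hQS hy)
  · intro x hx
    exact (le_normalizer_map C.subtype) ⟨⟨x, hx⟩, le_normalizer_of_normal (mem_top _), rfl⟩

/-- abelian Sylow subgroup: characteristic 2 puts it in the normaliser -/
theorem le_normalizer_of_charTwo_abelian {C : Subgroup G} (hC : Cfsg.IsOfCharacteristicTwo C) (S : Sylow 2 G)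
    (hSC : (S : Subgroup G) ≤ C) (hab : ∀ x ∈ (S : Subgroup G), ∀ y ∈ (S : Subgroup G), x * y = y * x) :
    C ≤ normalizer ((S : Subgroup G) : Set G) := by
  obtain ⟨R, hRS, hSR, hCR⟩ := le_normalizer_of_charTwo hC S hSC _ le_rfl fun z hz s hs => hab s hs z hz
  rwa [le_antisymm hRS hSR] at hCR

/-- fusion in an abelian Sylow subgroup -/
theorem fusion_abelian (S : Sylow 2 G) (hab : ∀ x ∈ (S : Subgroup G), ∀ y ∈ (S : Subgroup G), x * y = y * x)
    {t s g : G} (ht : t ∈ (S : Subgroup G)) (hs : s ∈ (S : Subgroup G)) (hg : g * t * g⁻¹ = s) :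
    ∃ n ∈ normalizer ((S : Subgroup G) : Set G), n * t * n⁻¹ = s := by
  haveI : Fact (Nat.Prime 2) := ⟨Nat.prime_two⟩
  obtain ⟨n, hn, h⟩ := Cfsg.Lib.Transfer.abelian_sylow_fusion S
    ⟨⟨fun a b => Subtype.ext (hab a a.2 b b.2)⟩⟩ t g ht (hg ▸ hs)
  exact ⟨n, hn, by rw [← h, hg]⟩

end Cfsg.Lib.BenderSE.Ring2
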