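/-
Second ring: elementary facts on solvability around an odd normal subgroup.
-/
import Cfsg.Agent.BenderSE.Ring2.Tools
import Cfsg.Agent.OddChar.PF.OddOrder

set_option autoImplicit false
set_option linter.unusedSectionVars false
set_option linter.style.haveILetI false

namespace Cfsg.Lib.BenderSE.Ring2

open Subgroup

universe u

variable {G : Type u} [Group G] [Finite G]

theorem solvable_of_quot (N : Subgroup G) [N.Normal] (h1 : Group.IsSolvable N)
    (h2 : Group.IsSolvable (G ⧸ N)) : Group.IsSolvable G := by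
  haveI := h1
  haveI := h2
  exact Group.isSolvable_of_ker_le_range N.subtype (QuotientGroup.mk' N) (by simp)

theorem solvable_of_normal_sylow (S : Sylow 2 G) (hn : (S : Subgroup G).Normal) : Group.IsSolvable G := by
  haveI : Fact (Nat.Prime 2) := ⟨Nat.prime_two⟩
  haveI := hn
  haveI := S.2.isNilpotent
  refine solvable_of_quot (S : Subgroup G) inferInstance (Cfsg.Agent.PF.isSolvable_of_odd _ ?_)
  rw [← Subgroup.index_eq_card, ← Nat.not_even_iff_odd, even_iff_two_dvd]
  exact S.not_dvd_index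

theorem centralizer_conj (g t : G) :
    (centralizer ({t} : Set G)).map (MulAut.conj g).toMonoidHom = centralizer ({g * t * g⁻¹} : Set G) := by
  ext x
  constructor
  · rintro ⟨y, hy, rfl⟩
    refine mem_centralizer_singleton_iff.2 ?_
    show g * y * g⁻¹ * (g * t * g⁻¹) = g * t * g⁻¹ * (g * y * g⁻¹)
    calc g * y * g⁻¹ * (g * t * g⁻¹) = g * (y * t) * g⁻¹ := by group
      _ = g * (t * y) * g⁻¹ := by rw [mem_centralizer_singleton_iff.1 hy]
      _ = _ := by group
  · intro hx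
    refine ⟨g⁻¹ * x * g, mem_centralizer_singleton_iff.2 ?_, show g * (g⁻¹ * x * g) * g⁻¹ = x by group⟩
    calc g⁻¹ * x * g * t = g⁻¹ * (x * (g * t * g⁻¹)) * g := by group
      _ = g⁻¹ * ((g * t * g⁻¹) * x) * g := by rw [mem_centralizer_singleton_iff.1 hx]
      _ = _ := by group

theorem solvable_centralizer_conj (g t : G) (h : Group.IsSolvable (centralizer ({t} : Set G))) :
    Group.IsSolvable (centralizer ({g * t * g⁻¹} : Set G)) := by
  rw [← centralizer_conj]
  haveI := h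
  exact Group.isSolvable_of_surjective (f := ((MulAut.conj g).toMonoidHom.subgroupMap _))
    (MonoidHom.subgroupMap_surjective _ _)

theorem exists_conj_mem_sylow (S : Sylow 2 G) {t : G} (ht : orderOf t = 2) :
    ∃ g : G, g * t * g⁻¹ ∈ (S : Subgroup G) := by
  haveI : Fact (Nat.Prime 2) := ⟨Nat.prime_two⟩
  obtain ⟨Q, hQ⟩ := (IsPGroup.of_card (n := 1) (by rw [pow_one, Nat.card_zpowers, ht]) :
    IsPGroup 2 (zpowers t)).exists_le_sylow
  obtain ⟨g, hg⟩ := MulAction.exists_smul_eq G Q S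
  exact ⟨g, by rw [← hg]; exact ⟨t, hQ (mem_zpowers t), rfl⟩⟩

/-- it suffices to treat the involutions of one Sylow 2-subgroup -/
theorem solvable_centralizers (S : Sylow 2 G)
    (h : ∀ t ∈ (S : Subgroup G), orderOf t = 2 → Group.IsSolvable (centralizer ({t} : Set G))) :
    ∀ t : G, orderOf t = 2 → Group.IsSolvable (centralizer ({t} : Set G)) := by
  intro t ht
  obtain ⟨g, hg⟩ := exists_conj_mem_sylow S ht
  have h1 := solvable_centralizer_conj g⁻¹ _ (h _ hg (by rw [orderOf_conj', ht]))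
  rwa [show g⁻¹ * (g * t * g⁻¹) * g⁻¹⁻¹ = t by group] at h1

theorem eq_one_of_mem_odd (S : Sylow 2 G) (N : Subgroup G) (hN : Odd (Nat.card N)) {x : G}
    (hx : x ∈ (S : Subgroup G)) (hxN : x ∈ N) : x = 1 := by
  haveI : Fact (Nat.Prime 2) := ⟨Nat.prime_two⟩
  obtain ⟨k, hk⟩ := IsPGroup.iff_orderOf.1 S.2 ⟨x, hx⟩
  rw [Subgroup.orderOf_mk] at hk
  rw [← orderOf_eq_one_iff]
  exact Nat.eq_one_of_dvd_coprimes ((Nat.coprime_two_left.2 hN).pow_left k) hk.dvd
    (Subgroup.orderOf_dvd_natCard N hxN)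

theorem pow_eq_one_iff_quot (S : Sylow 2 G) (N : Subgroup G) [N.Normal] (hN : Odd (Nat.card N)) {x : G}
    (hx : x ∈ (S : Subgroup G)) : (x : G ⧸ N) = 1 ↔ x = 1 :=
  ⟨fun h => eq_one_of_mem_odd S N hN hx ((QuotientGroup.eq_one_iff x).1 h), fun h => by rw [h, QuotientGroup.mk_one]⟩

theorem oddCore_eq_bot_quot : Cfsg.oddCore (G ⧸ Cfsg.oddCore G) = ⊥ :=
  Cfsg.Lib.Components.pPrimeCore_quotient_eq_bot

theorem odd_oddCore : Odd (Nat.card (Cfsg.oddCore G)) :=
  Cfsg.Lib.ZStarApps.odd_card_pPrimeCore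

end Cfsg.Lib.BenderSE.Ring2
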