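/-
A finite group with an abelian Sylow 2-subgroup of exponent 4 in which every involution is a square is
solvable, given REG.
-/
import Cfsg.Agent.BenderSE.Ring2.Solvable
import Cfsg.Agent.BenderSE.Ring2.FrameFacts
import Cfsg.Agent.Transfer.Control
import Cfsg.Agent.Transfer.Abelian
import Cfsg.Agent.Transfer.IndexPrimeTo
import Cfsg.Agent.S0949

set_option autoImplicit false
set_option linter.unusedSectionVars false
set_option linter.style.haveILetI false

namespace Cfsg.Lib.BenderSE.Ring2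

open Subgroup Cfsg.Lib.InvolCalc Cfsg.Lib.StrongEmb
open scoped commutatorElement

universe u

variable {G : Type u} [Group G] [Finite G]

/-- the hypothesis on the Sylow subgroup -/
structure AbFour (R : Subgroup G) : Prop where
  comm : ∀ x ∈ R, ∀ y ∈ R, x * y = y * x
  exp : ∀ x ∈ R, x ^ 4 = 1
  sq : ∀ i ∈ R, i * i = 1 → ∃ y ∈ R, y * y = i

/-- The commutator subgroup meets an abelian Sylow subgroup in a direct factor. -/
theorem commutator_part {S : Sylow 2 G} (h : AbFour (S : Subgroup G)) :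
    AbFour ((S : Subgroup G) ⊓ commutator G) ∧
      (commutator G = ⊤ → ∀ x ∈ (S : Subgroup G),
        (∀ n ∈ normalizer ((S : Subgroup G) : Set G), n * x = x * n) → x = 1) := by
  haveI : Fact (Nat.Prime 2) := ⟨Nat.prime_two⟩
  haveI hSc : IsMulCommutative (S : Subgroup G) := ⟨⟨fun a b => Subtype.ext (h.comm a a.2 b b.2)⟩⟩
  set N := normalizer ((S : Subgroup G) : Set G) with hNdef
  set A := (S : Subgroup G).subgroupOf N with hA
  haveI : A.Normal := (normal_subgroupOf_iff_le_normalizer le_normalizer).2 le_rfl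
  haveI : IsMulCommutative A := ⟨⟨fun a b =>
    Subtype.ext (Subtype.ext (h.comm ((a : N) : G) a.2 ((b : N) : G) b.2))⟩⟩
  have hHall : (Nat.card A).Coprime A.index := by
    obtain ⟨k, hk⟩ := S.2.exists_card_eq
    rw [show Nat.card A = 2 ^ k from (Nat.card_congr (subgroupOfEquivOfLe le_normalizer).toEquiv).trans hk]
    refine Nat.Coprime.pow_left k (Nat.prime_two.coprime_iff_not_dvd.2 fun h2 => S.not_dvd_index ?_)
    exact h2.trans (relIndex_dvd_index_of_le le_normalizer)
  obtain ⟨hD, hdisj, hsup⟩ := Cfsg.Lib.Transfer.normal_abelian_hall_decomp A hHall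
  have hfoc : (S : Subgroup G) ⊓ commutator G ≤ (commutator N ⊓ A).map N.subtype := by
    rw [← hD, map_commutator, inf_comm, ← Cfsg.Lib.Transfer.pResidual_inf_eq_commutator_inf S hSc,
      map_subgroupOf_eq_of_le (le_normalizer : (S : Subgroup G) ≤ N), ← MonoidHom.range_eq_map, range_subtype]
    exact (Cfsg.Lib.Transfer.pResidual_inf_le_focal S).trans
      (Cfsg.Lib.Transfer.focal_eq_commutator_normalizer S hSc).le
  have hback : ∀ z : N, z ∈ commutator N → (z : G) ∈ commutator G := by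
    intro z hz
    have h1 : (commutator N).map N.subtype ≤ commutator G := by
      rw [commutator_def, map_commutator, commutator_def]
      exact commutator_mono le_top le_top
    exact h1 ⟨z, hz, rfl⟩
  refine ⟨⟨fun x hx y hy => h.comm x hx.1 y hy.1, fun x hx => h.exp x hx.1, fun i hi hi2 => ?_⟩,
    fun htop x hx hxN => ?_⟩
  · obtain ⟨i', hi', rfl⟩ := hfoc hi
    obtain ⟨y, hy, hyy⟩ := h.sq _ hi.1 hi2
    set y' : N := ⟨y, le_normalizer hy⟩
    obtain ⟨a, ha, b, hb, hab⟩ := mem_sup_of_normal_right.1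
      (hsup.ge (show y' ∈ A from hy) : y' ∈ (commutator N ⊓ A) ⊔ (center N ⊓ A))
    have hcomm : a * b = b * a := Subtype.ext (h.comm _ ha.2 _ hb.2)
    have h1 : y' * y' = i' := Subtype.ext hyy
    have h2 : b * b = (a * a)⁻¹ * i' := by
      rw [← h1, ← hab, show a * b * (a * b) = a * (b * a) * b by group, ← hcomm]
      group
    have h3 : b * b ∈ (commutator N ⊓ A) ⊓ (center N ⊓ A) := by
      refine ⟨?_, mul_mem hb hb⟩
      rw [h2]
      exact (commutator N ⊓ A).mul_mem ((commutator N ⊓ A).inv_mem ((commutator N ⊓ A).mul_mem ha ha)) hi'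
    rw [hdisj, mem_bot] at h3
    refine ⟨a, ⟨ha.2, hback a ha.1⟩, ?_⟩
    have h4 : a * a = i' := by
      rw [h3] at h2
      calc a * a = a * a * 1 := (mul_one _).symm
        _ = i' := by rw [h2]; group
    exact congrArg Subtype.val h4
  · obtain ⟨x', hx', hxx⟩ := hfoc (show x ∈ (S : Subgroup G) ⊓ commutator G from ⟨hx, htop ▸ mem_top x⟩)
    have hc : x' ∈ center N := mem_center_iff.2 fun n => Subtype.ext (by
      show (n : G) * x' = x' * n
      rw [show ((x' : N) : G) = x from hxx]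
      exact hxN n n.2)
    have h3 : x' ∈ (commutator N ⊓ A) ⊓ (center N ⊓ A) := ⟨hx', hc, hx'.2⟩
    rw [hdisj, mem_bot] at h3
    rw [← hxx, h3]
    rfl

/-- a normal subgroup of a group with such a Sylow subgroup -/
theorem abFour_subgroupOf {N R : Subgroup G} (h : AbFour (R ⊓ N)) : AbFour (R.subgroupOf N) where
  comm x hx y hy := Subtype.ext (h.comm _ ⟨hx, x.2⟩ _ ⟨hy, y.2⟩)
  exp x hx := Subtype.ext (by rw [SubgroupClass.coe_pow]; exact h.exp _ ⟨hx, x.2⟩)
  sq i hi hi2 := by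
    obtain ⟨y, hy, hyy⟩ := h.sq _ ⟨hi, i.2⟩ (congrArg Subtype.val hi2)
    exact ⟨⟨y, hy.2⟩, hy.1, Subtype.ext hyy⟩

/-- four involutions: `S` is `Z4 × Z4` -/
theorem solvable_of_four (hO : Cfsg.oddCore G = ⊥) (S : Sylow 2 G) (h : AbFour (S : Subgroup G))
    {Ω : Subgroup G} (hΩ : ∀ x, x ∈ Ω ↔ x ∈ (S : Subgroup G) ∧ x * x = 1) (hc : Nat.card Ω = 4) :
    Group.IsSolvable G := by
  haveI : Fact (Nat.Prime 2) := ⟨Nat.prime_two⟩
  set R := (S : Subgroup G) with hR
  haveI : IsMulCommutative R := ⟨⟨fun a b => Subtype.ext (h.comm a a.2 b b.2)⟩⟩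
  open scoped IsMulCommutative in
  let sqh : R →* R := powMonoidHom 2
  have hker : Nat.card sqh.ker = 4 := by
    rw [← hc]
    refine Nat.card_congr ⟨fun x => ⟨((x : R) : G), (hΩ _).2 ⟨(x : R).2, ?_⟩⟩,
      fun x => ⟨⟨x.1, ((hΩ _).1 x.2).1⟩, ?_⟩, fun _ => rfl, fun _ => rfl⟩
    · have h1 := congrArg Subtype.val (MonoidHom.mem_ker.1 x.2)
      simpa [sqh, pow_two] using h1
    · exact MonoidHom.mem_ker.2 (Subtype.ext (by simpa [sqh, pow_two] using ((hΩ _).1 x.2).2))
  have hrange : Nat.card sqh.range = 4 := by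
    suffices he : sqh.range = sqh.ker by rw [he, hker]
    ext z
    refine ⟨?_, fun hz => ?_⟩
    · rintro ⟨w, rfl⟩
      refine MonoidHom.mem_ker.2 (Subtype.ext ?_)
      show (((w : R) ^ 2) ^ 2 : R).1 = 1
      rw [← pow_mul, SubgroupClass.coe_pow]
      exact h.exp _ w.2
    · have h1 : (z : G) * z = 1 := by
        have h2 := congrArg Subtype.val (MonoidHom.mem_ker.1 hz)
        simpa [sqh, pow_two] using h2
      obtain ⟨y, hy, hyy⟩ := h.sq _ z.2 h1
      exact ⟨⟨y, hy⟩, Subtype.ext (by simpa [sqh, pow_two] using hyy)⟩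
  have hcard : Nat.card R = 16 := by
    rw [← sqh.ker.card_mul_index, Subgroup.index_ker, hker, hrange]
  -- two independent square roots
  obtain ⟨u, hu, v, hv, hu1, hv1, huv⟩ : ∃ u ∈ Ω, ∃ v ∈ Ω, u ≠ 1 ∧ v ≠ 1 ∧ u ≠ v := by
    classical
    haveI := Fintype.ofFinite Ω
    have h4 : 2 < Fintype.card Ω := by rw [← Nat.card_eq_fintype_card, hc]; norm_num
    obtain ⟨a, ha⟩ := Fintype.exists_ne_of_one_lt_card (show 1 < Fintype.card Ω by omega) (1 : Ω)
    obtain ⟨b, -, hb⟩ := Finset.exists_mem_notMem_of_card_lt_card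
      (s := ({1, a} : Finset Ω)) (t := Finset.univ) (by
        rw [Finset.card_univ]; exact lt_of_le_of_lt Finset.card_le_two h4)
    simp only [Finset.mem_insert, Finset.mem_singleton, not_or] at hb
    exact ⟨a, a.2, b, b.2, fun e => ha (Subtype.ext e), fun e => hb.1 (Subtype.ext e),
      fun e => hb.2 (Subtype.ext e.symm)⟩
  obtain ⟨a, haR, ha⟩ := h.sq u ((hΩ u).1 hu).1 ((hΩ u).1 hu).2
  obtain ⟨b, hbR, hb⟩ := h.sq v ((hΩ v).1 hv).1 ((hΩ v).1 hv).2
  set a' : R := ⟨a, haR⟩
  set b' : R := ⟨b, hbR⟩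
  have h4 : ∀ x : R, x ^ 4 = 1 := fun x => Subtype.ext (h.exp _ x.2)
  have hmod : ∀ (x : R) (m : ℕ), x ^ (m % 4) = x ^ m := fun x m => (pow_eq_pow_mod m (h4 x)).symm
  open scoped IsMulCommutative in
  let ψ : Multiplicative (ZMod (2 ^ 2) × ZMod (2 ^ 2)) →* R :=
    MonoidHom.mk' (fun z => a' ^ (Multiplicative.toAdd z).1.val * b' ^ (Multiplicative.toAdd z).2.val)
      fun z w => by
        show a' ^ ((Multiplicative.toAdd z).1 + (Multiplicative.toAdd w).1).val *
          b' ^ ((Multiplicative.toAdd z).2 + (Multiplicative.toAdd w).2).val = _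
        have hmod' : ∀ (x : R) (m : ℕ), x ^ (m % 2 ^ 2) = x ^ m := hmod
        rw [ZMod.val_add, ZMod.val_add, hmod', hmod', pow_add, pow_add]
        exact mul_mul_mul_comm _ _ _ _
  have hinj : Function.Injective ψ := by
    refine (injective_iff_map_eq_one ψ).2 fun z hz => ?_
    have key : ∀ i j : ℕ, i < 2 → j < 2 → u ^ i * v ^ j = 1 → i = 0 ∧ j = 0 := by
      intro i j hi hj hij
      rcases Nat.lt_succ_iff.1 hi |>.lt_or_eq with hi0 | rfl <;>
        rcases Nat.lt_succ_iff.1 hj |>.lt_or_eq with hj0 | rfl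
      · omega
      · obtain rfl : i = 0 := by omega
        simp only [pow_zero, one_mul, pow_one] at hij
        exact absurd hij hv1
      · obtain rfl : j = 0 := by omega
        simp only [pow_zero, mul_one, pow_one] at hij
        exact absurd hij hu1
      · simp only [pow_one] at hij
        refine absurd ?_ huv
        calc u = u * (v * v) := by rw [((hΩ v).1 hv).2, mul_one]
          _ = v := by rw [← mul_assoc, hij, one_mul]
    obtain ⟨i, hi⟩ : ∃ i, i = (Multiplicative.toAdd z).1.val := ⟨_, rfl⟩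
    obtain ⟨j, hj⟩ : ∃ j, j = (Multiplicative.toAdd z).2.val := ⟨_, rfl⟩
    have hz' : a ^ i * b ^ j = 1 := by
      rw [hi, hj]; exact congrArg Subtype.val hz
    have hab : Commute a b := h.comm a haR b hbR
    have hsq : u ^ i * v ^ j = 1 := by
      have h5 := congrArg (· ^ 2) hz'
      simp only [one_pow] at h5
      rw [(hab.pow_pow i j).mul_pow, ← pow_mul, ← pow_mul, mul_comm i, mul_comm j, pow_mul, pow_mul,
        pow_two, pow_two, ha, hb] at h5
      exact h5
    have hu2 : u ^ 2 = 1 := by rw [pow_two]; exact ((hΩ u).1 hu).2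
    have hv2 : v ^ 2 = 1 := by rw [pow_two]; exact ((hΩ v).1 hv).2
    rw [pow_eq_pow_mod i hu2, pow_eq_pow_mod j hv2] at hsq
    obtain ⟨hi2, hj2⟩ := key _ _ (Nat.mod_lt _ two_pos) (Nat.mod_lt _ two_pos) hsq
    obtain ⟨i', rfl⟩ := Nat.dvd_of_mod_eq_zero hi2
    obtain ⟨j', rfl⟩ := Nat.dvd_of_mod_eq_zero hj2
    rw [pow_mul, pow_mul, pow_two, pow_two, ha, hb] at hz'
    have hi4 := ZMod.val_lt (Multiplicative.toAdd z).1
    have hj4 := ZMod.val_lt (Multiplicative.toAdd z).2
    replace hi4 : (Multiplicative.toAdd z).1.val < 4 := hi4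
    replace hj4 : (Multiplicative.toAdd z).2.val < 4 := hj4
    obtain ⟨e1, e2⟩ := key i' j' (by omega) (by omega) hz'
    have f1 : (Multiplicative.toAdd z).1 = 0 := (ZMod.val_eq_zero _).1 (by omega)
    have f2 : (Multiplicative.toAdd z).2 = 0 := (ZMod.val_eq_zero _).1 (by omega)
    exact Multiplicative.toAdd.injective (Prod.ext f1 f2)
  have hbij : Function.Bijective ψ := (Nat.bijective_iff_injective_and_card ψ).2 ⟨hinj, by
    rw [hcard, Nat.card_congr Multiplicative.toAdd, Nat.card_prod, Nat.card_zmod]; norm_num⟩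
  obtain ⟨hn, -, -⟩ := Cfsg.Agent.S0949.result S 2 le_rfl (MulEquiv.ofBijective ψ hbij).symm
    fun N hN hNodd => by
      haveI := hN
      exact le_bot_iff.1 (hO ▸ Cfsg.Lib.Components.le_pPrimeCore (Nat.coprime_two_right.2 hNodd))
  exact solvable_of_normal_sylow S hn

/-- the involutions of an abelian `R` -/
def omegaOf (R : Subgroup G) (h : AbFour R) : Subgroup G where
  carrier := {x | x ∈ R ∧ x * x = 1}
  one_mem' := ⟨one_mem _, one_mul _⟩
  mul_mem' {a b} ha hb := ⟨mul_mem ha.1 hb.1, by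
    rw [show a * b * (a * b) = a * (b * a) * b by group, h.comm b hb.1 a ha.1,
      show a * (a * b) * b = a * a * (b * b) by group, ha.2, hb.2, one_mul]⟩
  inv_mem' {a} ha := ⟨inv_mem ha.1, by rw [← mul_inv_rev, ha.2, inv_one]⟩

theorem mem_omegaOf {R : Subgroup G} {h : AbFour R} {x : G} :
    x ∈ omegaOf R h ↔ x ∈ R ∧ x * x = 1 := Iff.rfl

/-- THE THEOREM -/
theorem solvable_of_abFour (reg : RegProp.{u}) (S : Sylow 2 G) (h : AbFour (S : Subgroup G)) :
    Group.IsSolvable G := by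
  suffices key : ∀ (n : ℕ) (Y : Type u) [Group Y] [Finite Y] (S : Sylow 2 Y),
      AbFour (S : Subgroup Y) → Nat.card Y = n → Group.IsSolvable Y from key _ G S h rfl
  intro n
  induction n using Nat.strong_induction_on with
  | _ n ih =>
  intro G _ _ S h hn
  subst hn
  haveI : Fact (Nat.Prime 2) := ⟨Nat.prime_two⟩
  set R := (S : Subgroup G) with hR
  -- the core
  by_cases hO : Cfsg.oddCore G = ⊥
  swap
  · set O := Cfsg.oddCore G with hOdef
    haveI : O.Normal := inferInstance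
    refine solvable_of_quot O (Cfsg.Agent.PF.isSolvable_of_odd _ odd_oddCore) ?_
    set π := QuotientGroup.mk' O
    refine ih _ ?_ _ (S.mapSurjective (QuotientGroup.mk'_surjective O)) ?_ rfl
    · rw [← Subgroup.index_eq_card, ← O.card_mul_index]
      refine lt_mul_of_one_lt_left (Nat.pos_of_ne_zero index_ne_zero_of_finite) ?_
      exact Finite.one_lt_card_iff_nontrivial.2 ((nontrivial_iff_ne_bot O).2 hO)
    · rw [Sylow.coe_mapSurjective]
      refine ⟨?_, ?_, ?_⟩
      · rintro _ ⟨x, hx, rfl⟩ _ ⟨y, hy, rfl⟩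
        rw [← map_mul, ← map_mul, h.comm x hx y hy]
      · rintro _ ⟨x, hx, rfl⟩
        rw [← map_pow, h.exp x hx, map_one]
      · rintro _ ⟨x, hx, rfl⟩ hx2
        obtain ⟨y, hy, hyy⟩ := h.sq x hx
          ((pow_eq_one_iff_quot S O odd_oddCore (mul_mem hx hx)).1 (by rw [← hx2]; rfl))
        exact ⟨π y, mem_map_of_mem _ hy, by rw [← map_mul, hyy]⟩
  -- the commutator subgroup
  obtain ⟨hab, hcen⟩ := commutator_part h
  by_cases htop : commutator G = ⊤
  swap
  · haveI : IsMulCommutative (G ⧸ commutator G) :=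
      (inferInstance : IsMulCommutative (Abelianization G))
    refine solvable_of_quot (commutator G) ?_ (show Group.IsSolvable (Abelianization G) from inferInstance)
    obtain ⟨T, hT⟩ := Cfsg.Lib.Transfer.exists_sylow_subgroupOf S (commutator G)
    refine ih _ ?_ (commutator G) T (hT ▸ abFour_subgroupOf hab) rfl
    exact lt_of_le_of_ne (card_le_card_group _) fun e => htop ((card_eq_iff_eq_top _).1 e)
  have hcen' := hcen htop
  -- the involutions
  by_cases hR1 : R = ⊥
  · refine Cfsg.Agent.PF.isSolvable_of_odd G ?_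
    rw [← R.card_mul_index, hR1, card_bot, one_mul, ← hR1, ← Nat.not_even_iff_odd, even_iff_two_dvd]
    exact S.not_dvd_index
  set Ω := omegaOf R h with hΩ
  have hΩR : Ω ≤ R := fun x hx => hx.1
  have hΩp : IsPGroup 2 Ω := S.2.to_le hΩR
  have hconjΩ : ∀ g ∈ normalizer (R : Set G), ∀ x ∈ Ω, g * x * g⁻¹ ∈ Ω := fun g hg x hx =>
    ⟨(mem_normalizer_iff.1 hg x).1 hx.1, by
      rw [show g * x * g⁻¹ * (g * x * g⁻¹) = g * (x * x) * g⁻¹ by group, hx.2, mul_one, mul_inv_cancel]⟩
  obtain ⟨k, hk⟩ := IsPGroup.iff_card.1 hΩp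
  have hΩne : Ω ≠ ⊥ := by
    intro hb
    obtain ⟨z, hzR, hz, -⟩ := exists_central_involution S.2 hR1
    have h1 : z ∈ Ω := ⟨hzR, sq_of_order_two hz⟩
    rw [hb, mem_bot] at h1
    rw [h1, orderOf_one] at hz
    omega
  have hk1 : k ≠ 0 := fun e => hΩne (Subgroup.eq_bot_of_card_eq _ (by rw [hk, e, pow_zero]))
  rcases (show k = 1 ∨ k = 2 ∨ 3 ≤ k by omega) with rfl | rfl | hk3
  · -- one involution: it is central in the normaliser
    exfalso
    obtain ⟨z, hz1, hzu⟩ : ∃ z ∈ Ω, z ≠ 1 := by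
      by_contra h0
      push Not at h0
      exact hΩne ((Subgroup.eq_bot_iff_forall _).2 h0)
    refine hzu (hcen' z hz1.1 fun g hg => mul_inv_eq_iff_eq_mul.1 ?_)
    by_contra hne
    have h2 : g * z * g⁻¹ ≠ 1 := fun e => hzu (by simpa [mul_assoc] using congrArg (fun w => g⁻¹ * w * g) e)
    classical
    haveI := Fintype.ofFinite Ω
    have h3 : 2 < Fintype.card Ω := Fintype.two_lt_card_iff.2 ⟨⟨1, one_mem _⟩, ⟨z, hz1⟩,
      ⟨_, hconjΩ g hg z hz1⟩, fun e => hzu (congrArg Subtype.val e).symm,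
      fun e => h2 (congrArg Subtype.val e).symm, fun e => hne (congrArg Subtype.val e).symm⟩
    rw [← Nat.card_eq_fintype_card, hk] at h3
    omega
  · exact solvable_of_four hO S h (fun _ => Iff.rfl) (by rw [hk]; norm_num)
  -- rank at least three
  have h8 : 8 ≤ Nat.card Ω := by
    rw [hk]; exact le_trans (by norm_num) (Nat.pow_le_pow_right two_pos hk3)
  have hΩel : IsMulCommutative Ω := ⟨⟨fun a b => Subtype.ext (h.comm a (hΩR a.2) b (hΩR b.2))⟩⟩
  have hΩ2 : ∀ a ∈ Ω, a ^ 2 = 1 := fun a ha => by rw [pow_two]; exact ha.2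
  have h3 : ¬ Cfsg.PRankLE 2 2 G := fun hle => by
    have := hle Ω hΩel hΩ2
    omega
  have hconn : Cfsg.IsFourConnected R := by
    haveI : (Ω.subgroupOf R).Normal := ⟨fun x hx g => by
      refine mem_subgroupOf.2 ?_
      have hgx : ((g * x * g⁻¹ : R) : G) = (x : G) := by
        show (g : G) * x * (g : G)⁻¹ = x
        rw [h.comm g g.2 x x.2, mul_inv_cancel_right]
      rw [hgx]
      exact hx⟩
    refine Cfsg.Lib.Misc.FourConnected.connected_of_normal S.2 (Ω.subgroupOf R) ⟨⟨fun a b => ?_⟩⟩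
      (fun e he => Subtype.ext (by rw [SubgroupClass.coe_pow]; exact hΩ2 _ he)) ?_
    · exact Subtype.ext (Subtype.ext (h.comm _ (a : R).2 _ (b : R).2))
    · rw [Nat.card_congr (subgroupOfEquivOfLe hΩR).toEquiv]; exact h8
  have hcent : ∀ t ∈ R, orderOf t = 2 → R ≤ centralizer ({t} : Set G) := fun t htR _ x hx =>
    mem_centralizer_singleton_iff.2 (h.comm x hx t htR)
  have hsol : ∀ t : G, orderOf t = 2 → Group.IsSolvable (centralizer ({t} : Set G)) := by
    refine solvable_centralizers S fun t htR ht => ?_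
    have hne : centralizer ({t} : Set G) ≠ ⊤ := by
      intro htop'
      have h1 := hcen' t htR fun g _ => mem_centralizer_singleton_iff.1 (htop' ▸ mem_top g)
      rw [h1, orderOf_one] at ht
      omega
    refine ih _ ?_ (centralizer ({t} : Set G)) (S.subtype (hcent t htR ht)) ?_ rfl
    · exact lt_of_le_of_ne (card_le_card_group _) fun e => hne ((card_eq_iff_eq_top _).1 e)
    · exact abFour_subgroupOf ⟨fun x hx y hy => h.comm x hx.1 y hy.1, fun x hx => h.exp x hx.1,
        fun i hi hi2 => by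
          obtain ⟨y, hy, hyy⟩ := h.sq i hi.1 hi2
          exact ⟨y, ⟨hy, hcent t htR ht hy⟩, hyy⟩⟩
  have hNC : ∀ t ∈ R, orderOf t = 2 → centralizer ({t} : Set G) ≤ normalizer (R : Set G) :=
    fun t htR ht => le_normalizer_of_charTwo_abelian (charTwo_centralizer reg hO h3 S hconn hsol ht) S
      (hcent t htR ht) h.comm
  rcases normal_or_embedded S le_normalizer (even_iff_two_dvd.2
      ((dvd_pow_self 2 hk1).trans (hk ▸ card_subgroup_dvd_card Ω))) hNC
      (fun t ht s hs _ g hg => fusion_abelian S h.comm ht hs hg) with hN | hN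
  · exact solvable_of_normal_sylow S (normalizer_eq_top_iff.1 hN)
  exfalso
  have hrank : HasCommutingInvolutions G :=
    hasComm_of_rankAtLeast ⟨Ω, hΩel, hΩ2, le_trans (by norm_num) h8⟩
  have hset : Setting (normalizer (R : Set G)) := ⟨hN, le_bot_iff.1 (hO ▸
    Cfsg.Lib.Components.le_pPrimeCore (Nat.coprime_two_right.2 (odd_normalCore hN))), hrank⟩
  obtain ⟨L, Q, F⟩ := exists_frame reg hset
  obtain ⟨S', hS'⟩ := F.sylow
  obtain ⟨g, hg⟩ := MulAction.exists_smul_eq G S S'
  have hQ : ∀ x, x ∈ Q → ∃ y ∈ R, g * y * g⁻¹ = x := by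
    intro x hx
    rw [← hS', ← hg] at hx
    obtain ⟨y, hy, rfl⟩ := hx
    exact ⟨y, hy, rfl⟩
  have hQab : ∀ x ∈ Q, ∀ y ∈ Q, x * y = y * x := by
    intro x hx y hy
    obtain ⟨a, ha, rfl⟩ := hQ x hx
    obtain ⟨b, hb, rfl⟩ := hQ y hy
    rw [show g * a * g⁻¹ * (g * b * g⁻¹) = g * (a * b) * g⁻¹ by group, h.comm a ha b hb]
    group
  have helem := frame_elementary_of_abelian F hset hQab
  obtain ⟨z, hz, hzne⟩ : ∃ z ∈ Ω, z ≠ 1 := by
    by_contra h0
    push Not at h0
    exact hΩne ((Subgroup.eq_bot_iff_forall _).2 h0)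
  obtain ⟨y, hy, hyy⟩ := h.sq z hz.1 hz.2
  have hgy : g * y * g⁻¹ ∈ Q := by
    rw [← hS', ← hg]
    exact ⟨y, hy, rfl⟩
  have h1 := helem _ hgy
  apply hzne
  rw [← hyy]
  calc y * y = g⁻¹ * (g * y * g⁻¹ * (g * y * g⁻¹)) * g := by group
    _ = 1 := by rw [h1]; group

end Cfsg.Lib.BenderSE.Ring2
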