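/-
The Sylow 2-subgroups of `PSU₃(2ⁿ)`, `n ≥ 3`, by the properties used in the second ring.
-/
import Cfsg.Agent.SuzukiTwo.UnitaryAut

set_option autoImplicit false
set_option linter.unusedSectionVars false
set_option linter.style.haveILetI false

namespace Cfsg.Lib.BenderSE.Ring2

open Subgroup

universe u

variable {G : Type u} [Group G]

/-- the centre of a subgroup -/
def cenOf (R : Subgroup G) : Subgroup G := R ⊓ centralizer (R : Set G)

theorem mem_cenOf {R : Subgroup G} {x : G} : x ∈ cenOf R ↔ x ∈ R ∧ ∀ y ∈ R, y * x = x * y :=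
  Iff.rfl.trans (and_congr_right fun _ => mem_centralizer_iff)

/-- `R` looks like the Sylow 2-subgroup of `PSU₃(2ⁿ)` -/
structure UType (R : Subgroup G) (q : ℕ) : Prop where
  cen_iff : ∀ x ∈ R, x * x = 1 ↔ x ∈ cenOf R
  sq_cen : ∀ x ∈ R, x * x ∈ cenOf R
  sqr : ∀ x ∈ R, x ∉ cenOf R → ∀ z ∈ cenOf R, ∃ y ∈ R, x * y = y * x ∧ y * y = z
  trans : ∀ x ∈ R, ∀ y ∈ R, ∀ w ∈ R, y ∉ cenOf R → x * y = y * x → y * w = w * y → x * w = w * x
  big : 8 ≤ q
  card_cen : Nat.card (cenOf R) = q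
  card_all : Nat.card R = q ^ 3

theorem cenOf_map {H : Type*} [Group H] (f : G →* H) (hf : Function.Injective f) (R : Subgroup G) {x : G} :
    f x ∈ cenOf (R.map f) ↔ x ∈ cenOf R := by
  rw [mem_cenOf, mem_cenOf, mem_map_iff_mem hf]
  refine and_congr_right fun _ => ⟨fun h y hy => hf (by rw [map_mul, map_mul]; exact h _ (mem_map_of_mem f hy)), ?_⟩
  rintro h _ ⟨y, hy, rfl⟩
  rw [← map_mul, ← map_mul, h y hy]

theorem UType.map {H : Type*} [Group H] (f : G →* H) (hf : Function.Injective f) {R : Subgroup G} {q : ℕ}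
    (h : UType R q) : UType (R.map f) q where
  cen_iff := by
    rintro _ ⟨x, hx, rfl⟩
    rw [cenOf_map f hf, ← map_mul, ← h.cen_iff x hx]
    exact map_eq_one_iff f hf
  sq_cen := by
    rintro _ ⟨x, hx, rfl⟩
    rw [← map_mul, cenOf_map f hf]
    exact h.sq_cen x hx
  sqr := by
    rintro _ ⟨x, hx, rfl⟩ hxc z hz
    obtain ⟨z', hz', rfl⟩ := (show z ∈ R.map f from hz.1)
    obtain ⟨y, hy, h1, h2⟩ := h.sqr x hx (fun e => hxc ((cenOf_map f hf R).2 e)) z' ((cenOf_map f hf R).1 hz)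
    exact ⟨f y, mem_map_of_mem f hy, by rw [← map_mul, ← map_mul, h1], by rw [← map_mul, h2]⟩
  trans := by
    rintro _ ⟨x, hx, rfl⟩ _ ⟨y, hy, rfl⟩ _ ⟨w, hw, rfl⟩ hyc h1 h2
    rw [← map_mul, ← map_mul] at h1 h2 ⊢
    rw [h.trans x hx y hy w hw (fun e => hyc ((cenOf_map f hf R).2 e)) (hf h1) (hf h2)]
  big := h.big
  card_cen := by
    have he : cenOf (R.map f) = (cenOf R).map f := by
      ext y
      constructor
      · intro hy
        obtain ⟨x, -, rfl⟩ := (show y ∈ R.map f from hy.1)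
        exact mem_map_of_mem f ((cenOf_map f hf R).1 hy)
      · rintro ⟨x, hx, rfl⟩
        exact (cenOf_map f hf R).2 hx
    rw [he, card_map_of_injective hf, h.card_cen]
  card_all := by rw [card_map_of_injective hf, h.card_all]

open Matrix Cfsg.Lib.Classical Cfsg.Lib.Fusion.PSU Cfsg.Lib.Known.AutPSLn Cfsg.Lib.SuzukiTwo.Unitary

theorem uType_sylU {F : Type*} [Field F] [Fintype F] [CharP F 2] {σ : F →+* F} {hσ : IsConj σ}
    (h8 : 8 ≤ Nat.card (fixedField σ)) : UType (⊤ : Subgroup (sylU 3 hσ)) (Nat.card (fixedField σ)) := by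
  classical
  have hcen : ∀ g : sylU 3 hσ, g ∈ cenOf (⊤ : Subgroup (sylU 3 hσ)) ↔ bc g = 0 := fun g => by
    rw [mem_cenOf, ← center_iff, Subgroup.mem_center_iff]
    exact ⟨fun h y => h.2 y (mem_top y), fun h => ⟨mem_top g, fun y _ => h y⟩⟩
  have hcomm : ∀ g h : sylU 3 hσ, g * h = h * g ↔ bc g * σ (bc h) = bc h * σ (bc g) := fun g h => by
    constructor
    · intro e
      have := congrArg cc e
      rw [cc_mul, cc_mul] at this
      linear_combination this
    · intro e
      refine ext_coord (by rw [bc_mul, bc_mul, add_comm]) ?_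
      rw [cc_mul, cc_mul]
      linear_combination e
  refine ⟨fun g _ => (sq_eq_one_iff g).trans (hcen g).symm, fun g _ => (hcen _).2 (bc_sq g),
    fun x _ hx z hz => ?_, fun x _ y _ w _ hy h1 h2 => ?_, h8, ?_, ?_⟩
  · obtain ⟨θ, hθ⟩ := hσ.exists_trace_one
    have hbx : bc x ≠ 0 := fun e => hx ((hcen x).2 e)
    have hbz : bc z = 0 := (hcen z).1 hz
    set N := bc x * σ (bc x) with hN
    have hN0 : N ≠ 0 := mul_ne_zero hbx (fun e => hbx (hσ.eq_zero.1 e))
    have hNf : σ N = N := hσ.norm_mem _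
    have hcz : σ (cc z) = cc z := cc_fixed hbz
    obtain ⟨r, hr⟩ := FiniteField.isSquare_of_char_two (ringChar.eq (fixedField σ) 2)
      (⟨cc z / N, by rw [mem_fixedField, map_div₀, hcz, hNf]⟩ : fixedField σ)
    have hrF : cc z / N = (r : F) * (r : F) := congrArg Subtype.val hr
    have hrs : σ (r : F) = r := mem_fixedField.mp r.2
    have hrel : θ * cc z + σ (θ * cc z) + ((r : F) * bc x) * σ ((r : F) * bc x) = 0 := by
      rw [map_mul, map_mul, hcz, hrs]
      have e : (r : F) * (r : F) * N = cc z := by rw [← hrF, div_mul_cancel₀ _ hN0]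
      rw [hN] at e
      linear_combination (cc z) * hθ + e + (cc z) * (CharTwo.two_eq_zero (R := F))
    refine ⟨el _ _ hrel, mem_top _, ?_, ?_⟩
    · rw [hcomm, bc_el, map_mul, hrs]
      ring
    · refine ext_coord (by rw [bc_sq, hbz]) ?_
      rw [cc_sq, bc_el, map_mul, hrs]
      have e : (r : F) * (r : F) * N = cc z := by rw [← hrF, div_mul_cancel₀ _ hN0]
      rw [hN] at e
      linear_combination e
  · have hby : bc y ≠ 0 := fun e => hy ((hcen y).2 e)
    rw [hcomm] at h1 h2 ⊢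
    refine mul_right_cancel₀ (mul_ne_zero hby (fun e => hby (hσ.eq_zero.1 e))) ?_
    linear_combination (bc y * σ (bc w)) * h1 + (bc y * σ (bc x)) * h2
  · have e : cenOf (⊤ : Subgroup (sylU 3 hσ)) = Subgroup.center (sylU 3 hσ) :=
      SetLike.ext fun g => (hcen g).trans (center_iff g).symm
    rw [e, card_center]
  · rw [Subgroup.card_top, card_sylU]

/-- the Sylow 2-subgroups of `PSU₃(2ⁿ)` -/
theorem uType_psu {F : Type*} [Field F] [Fintype F] {n : ℕ} (hn : 3 ≤ n) (hF : Fintype.card F = (2 ^ n) ^ 2)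
    (S : Sylow 2 (Cfsg.PSU 3 F (2 ^ n))) : UType (S : Subgroup (Cfsg.PSU 3 F (2 ^ n))) (2 ^ n) := by
  classical
  haveI : Fact (Nat.Prime 2) := ⟨Nat.prime_two⟩
  haveI : CharP F 2 := by
    refine CharTwo.of_one_ne_zero_of_two_eq_zero one_ne_zero ?_
    have h0 : ((Fintype.card F : ℕ) : F) = 0 := FiniteField.cast_card_eq_zero F
    rw [hF, ← pow_mul, Nat.cast_pow, Nat.cast_ofNat] at h0
    exact (pow_eq_zero_iff (by omega)).mp h0
  set hσ := powConj_isConj hF
  have hfix : Nat.card (fixedField (powConj hF)) = 2 ^ n := by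
    have h1 := hσ.card_eq_sq
    rw [Nat.card_eq_fintype_card (α := F), hF] at h1
    exact (Nat.pow_left_injective (by norm_num) h1).symm
  obtain ⟨E⟩ := exists_equiv hF 3
  set π : antiSU 3 hσ →* Cfsg.PSU 3 F (2 ^ n) :=
    (QuotientGroup.mk' (Subgroup.center (Cfsg.SU 3 F (2 ^ n)))).comp E.toMonoidHom
  have hπ : Function.Surjective π := (QuotientGroup.mk'_surjective _).comp E.surjective
  obtain ⟨Q, hQ⟩ := exists_sylow (hσ := hσ) (n := 3) 2
  have hinj : Function.Injective (π.comp (sylU 3 hσ).subtype) := by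
    refine (injective_iff_map_eq_one _).mpr fun g hg => Subtype.ext (E.injective ?_)
    have hz : E g ∈ Subgroup.center (Cfsg.SU 3 F (2 ^ n)) := (QuotientGroup.eq_one_iff _).mp hg
    rw [Subgroup.coe_one, map_one, ← orderOf_eq_one_iff]
    have h1 : (E g) ^ Nat.gcd 3 (2 ^ n + 1) = 1 := by
      rw [← card_center_SU hF (show 2 ≤ 3 by omega)]
      exact congrArg Subtype.val (pow_card_eq_one' (G := Subgroup.center (Cfsg.SU 3 F (2 ^ n))) (x := ⟨E g, hz⟩))
    have h2 := (orderOf_dvd_of_pow_eq_one h1).trans (Nat.gcd_dvd_left _ _)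
    obtain ⟨k, hk⟩ := isPGroup_sylU (hσ := hσ) (n := 3) 2 g
    have h3 : orderOf (E g) ∣ 2 ^ k := orderOf_dvd_of_pow_eq_one (by
      rw [← map_pow, show (g : antiSU 3 hσ) ^ 2 ^ k = 1 from congrArg Subtype.val hk, map_one])
    exact Nat.eq_one_of_dvd_coprimes (Nat.Coprime.pow_left k (by norm_num)) h3 h2
  have h := (uType_sylU (hσ := hσ) (by
    rw [hfix]
    calc 8 = 2 ^ 3 := by norm_num
      _ ≤ 2 ^ n := Nat.pow_le_pow_right (by norm_num) hn)).map _ hinj
  rw [hfix, ← MonoidHom.range_eq_map, MonoidHom.range_comp, Subgroup.range_subtype] at h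
  obtain ⟨g, hg⟩ := MulAction.exists_smul_eq (Cfsg.PSU 3 F (2 ^ n)) (Q.mapSurjective hπ) S
  have h2 := h.map (MulAut.conj g).toMonoidHom (MulAut.conj g).injective
  have he : ((sylU 3 hσ).map π).map (MulAut.conj g).toMonoidHom = (S : Subgroup (Cfsg.PSU 3 F (2 ^ n))) := by
    rw [← hg, ← hQ, ← Sylow.coe_mapSurjective]
    rfl
  rwa [he] at h2

/-- transport along an isomorphism of subgroups -/
theorem UType.of_equiv {H : Type*} [Group H] {R : Subgroup G} {R' : Subgroup H} {q : ℕ} (e : R ≃* R')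
    (h : UType R' q) : UType R q := by
  have h0 : UType (⊤ : Subgroup R') q := by
    have key : ∀ x : R', x ∈ cenOf (⊤ : Subgroup R') ↔ (x : H) ∈ cenOf R' := fun x => by
      rw [← cenOf_map R'.subtype R'.subtype_injective, ← MonoidHom.range_eq_map, range_subtype]
      rfl
    refine ⟨fun x _ => ?_, fun x _ => (key _).2 (h.sq_cen _ x.2), fun x _ hx z hz => ?_,
      fun x _ y _ w _ hy h1 h2 => ?_, h.big, ?_, by rw [card_top, h.card_all]⟩
    · rw [key, ← h.cen_iff _ x.2, ← Subgroup.coe_mul, OneMemClass.coe_eq_one]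
    · obtain ⟨y, hy, h1, h2⟩ := h.sqr _ x.2 (fun e => hx ((key x).2 e)) _ ((key z).1 hz)
      exact ⟨⟨y, hy⟩, mem_top _, Subtype.ext h1, Subtype.ext h2⟩
    · exact Subtype.ext (h.trans _ x.2 _ y.2 _ w.2 (fun e => hy ((key y).2 e)) (congrArg Subtype.val h1)
        (congrArg Subtype.val h2))
    · rw [← h.card_cen]
      exact Nat.card_congr ⟨fun x => ⟨_, (key x.1).1 x.2⟩, fun x => ⟨⟨x.1, x.2.1⟩, (key _).2 x.2⟩,
        fun _ => rfl, fun _ => rfl⟩
  have h1 := h0.map (R.subtype.comp e.symm.toMonoidHom)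
    (R.subtype_injective.comp e.symm.injective)
  rwa [← MonoidHom.range_eq_map, MonoidHom.range_comp,
    MonoidHom.range_eq_top.2 (show Function.Surjective e.symm.toMonoidHom from e.symm.surjective),
    ← MonoidHom.range_eq_map, range_subtype] at h1

end Cfsg.Lib.BenderSE.Ring2
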