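/-
An element of odd order normalising a unitary-type 2-group and fixing its centre acts on the central quotient
without fixed points, or trivially.
-/
import Cfsg.Agent.BenderSE.Ring2.UType

set_option autoImplicit false
set_option linter.unusedSectionVars false
set_option linter.style.haveILetI false

namespace Cfsg.Lib.BenderSE.Ring2

open Subgroup

universe u

variable {G : Type u} [Group G] {R : Subgroup G} {q : ℕ}

theorem cenOf_comm {z : G} (hz : z ∈ cenOf R) {x : G} (hx : x ∈ R) : x * z = z * x :=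
  (mem_cenOf.1 hz).2 x hx

theorem UType.comm_cen (h : UType R q) {x y : G} (hx : x ∈ R) (hy : y ∈ R) :
    x * y * x⁻¹ * y⁻¹ ∈ cenOf R := by
  have h1 := h.sq_cen _ (mul_mem hx hy)
  have h2 := h.sq_cen _ (inv_mem hy)
  have h3 := h.sq_cen _ hx
  have e : x * y * x⁻¹ * y⁻¹ = x * y * (x * y) * (y⁻¹ * (x * x)⁻¹ * y) * (y⁻¹ * y⁻¹) := by group
  rw [e, show y⁻¹ * (x * x)⁻¹ * y = (x * x)⁻¹ by
    rw [cenOf_comm (inv_mem h3) (inv_mem hy)]; group]
  exact mul_mem (mul_mem h1 (inv_mem h3)) h2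

/-- centralisers in `R` are normal in `R` -/
theorem UType.conj_comm (h : UType R q) {c d x : G} (hc : c ∈ R) (hd : d ∈ R) (hx : x ∈ R)
    (hcx : c * x = x * c) : c * (d * x * d⁻¹) = d * x * d⁻¹ * c := by
  have hk := h.comm_cen hd hx
  rw [show d * x * d⁻¹ = d * x * d⁻¹ * x⁻¹ * x by group]
  calc c * (d * x * d⁻¹ * x⁻¹ * x) = c * (d * x * d⁻¹ * x⁻¹) * x := (mul_assoc _ _ _).symm
    _ = d * x * d⁻¹ * x⁻¹ * c * x := by rw [cenOf_comm hk hc]
    _ = d * x * d⁻¹ * x⁻¹ * (c * x) := mul_assoc _ _ _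
    _ = _ := by rw [hcx]; group

/-- the displacements commute with a fixed coset -/
theorem UType.disp_comm (h : UType R q) {g c d : G} (hgR : ∀ x ∈ R, g * x * g⁻¹ ∈ R)
    (hgZ : ∀ z ∈ cenOf R, g * z = z * g) (hc : c ∈ R) (hgc : g * c * g⁻¹ * c⁻¹ ∈ cenOf R) (hd : d ∈ R) :
    c * (d⁻¹ * (g * d * g⁻¹)) = d⁻¹ * (g * d * g⁻¹) * c := by
  set e := d⁻¹ * (g * d * g⁻¹) with he
  set z := g * c * g⁻¹ * c⁻¹ with hz
  set k := c * d * c⁻¹ * d⁻¹ with hk
  have hkZ := h.comm_cen hc hd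
  have heR : e ∈ R := mul_mem (inv_mem hd) (hgR d hd)
  have h1 : g * c * g⁻¹ * (g * d * g⁻¹) = k * (g * d * g⁻¹) * (g * c * g⁻¹) := by
    calc g * c * g⁻¹ * (g * d * g⁻¹) = g * (k * d * c) * g⁻¹ := by rw [hk]; group
      _ = g * k * (d * c) * g⁻¹ := by group
      _ = k * g * (d * c) * g⁻¹ := by rw [hgZ k hkZ]
      _ = _ := by group
  have h2 : g * c * g⁻¹ = z * c := by rw [hz]; group
  have h3 : g * d * g⁻¹ = d * e := by rw [he]; group
  rw [h2, h3] at h1
  have h4 : z * (c * (d * e)) = z * (k * (d * e) * c) := by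
    calc z * (c * (d * e)) = z * c * (d * e) := (mul_assoc _ _ _).symm
      _ = k * (d * e) * (z * c) := h1
      _ = k * (d * e) * z * c := (mul_assoc _ _ _).symm
      _ = z * (k * (d * e)) * c := by rw [cenOf_comm hgc (mul_mem hkZ.1 (mul_mem hd heR))]
      _ = _ := mul_assoc _ _ _
  have h5 := mul_left_cancel h4
  have h6 : k * d * (c * e) = k * d * (e * c) := by
    calc k * d * (c * e) = k * d * c * e := (mul_assoc _ _ _).symm
      _ = c * (d * e) := by rw [hk]; group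
      _ = k * (d * e) * c := h5
      _ = _ := by group
  exact mul_left_cancel h6

/-- THE LEMMA -/
theorem UType.semifree (h : UType R q) {g c : G} (hgo : Odd (orderOf g))
    (hgR : ∀ x ∈ R, g * x * g⁻¹ ∈ R) (hgZ : ∀ z ∈ cenOf R, g * z = z * g) (hc : c ∈ R) (hcZ : c ∉ cenOf R)
    (hgc : g * c * g⁻¹ * c⁻¹ ∈ cenOf R) : ∀ d ∈ R, g * d * g⁻¹ * d⁻¹ ∈ cenOf R := by
  have hdisp : ∀ d ∈ R, g * d * g⁻¹ * d⁻¹ ∈ cenOf R ↔ d⁻¹ * (g * d * g⁻¹) ∈ cenOf R := fun d hd => by
    constructor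
    · intro hm
      rw [show d⁻¹ * (g * d * g⁻¹) = d⁻¹ * (g * d * g⁻¹ * d⁻¹) * d by group, cenOf_comm hm (inv_mem hd)]
      simpa [mul_assoc] using hm
    · intro hm
      rw [show g * d * g⁻¹ * d⁻¹ = d * (d⁻¹ * (g * d * g⁻¹)) * d⁻¹ by group, cenOf_comm hm hd]
      simpa [mul_assoc] using hm
  by_contra hno
  push Not at hno
  obtain ⟨d₀, hd₀, he₀⟩ := hno
  set e₀ := d₀⁻¹ * (g * d₀ * g⁻¹) with he₀def
  have he₀Z : e₀ ∉ cenOf R := fun e => he₀ ((hdisp d₀ hd₀).2 e)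
  have he₀R : e₀ ∈ R := mul_mem (inv_mem hd₀) (hgR d₀ hd₀)
  -- the fixed elements commute with `c`
  have hfix : ∀ w ∈ R, g * w * g⁻¹ * w⁻¹ ∈ cenOf R → c * w = w * c := by
    intro w hw hwg
    by_cases hwZ : w ∈ cenOf R
    · exact cenOf_comm hwZ hc
    · exact h.trans c hc e₀ he₀R w hw he₀Z (h.disp_comm hgR hgZ hc hgc hd₀)
        ((h.disp_comm hgR hgZ hw hwg hd₀).symm)
  -- the average
  have hall : ∀ d ∈ R, c * d = d * c := by
    intro d hd
    let P : ℕ → G := fun k => Nat.rec 1 (fun _ x => d * (g * x * g⁻¹)) k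
    have hPs : ∀ k, P (k + 1) = d * (g * P k * g⁻¹) := fun k => rfl
    have hPs' : ∀ k, P (k + 1) = P k * (g ^ k * d * g⁻¹ ^ k) := by
      intro k
      induction k with
      | zero => show d * (g * 1 * g⁻¹) = 1 * _; simp
      | succ k ih =>
        calc P (k + 1 + 1) = d * (g * P (k + 1) * g⁻¹) := hPs (k + 1)
          _ = d * (g * (P k * (g ^ k * d * g⁻¹ ^ k)) * g⁻¹) := by rw [ih]
          _ = d * (g * P k * g⁻¹) * (g * g ^ k * d * (g⁻¹ ^ k * g⁻¹)) := by group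
          _ = _ := by rw [← hPs k, ← pow_succ', ← pow_succ]
    have hPR : ∀ k, P k ∈ R ∧ ∃ x ∈ R, c * x = x * c ∧ P k = d ^ k * x := by
      intro k
      induction k with
      | zero => exact ⟨one_mem _, 1, one_mem _, by simp, by show (1 : G) = d ^ 0 * 1; simp⟩
      | succ k ih =>
        obtain ⟨hk, x, hx, hcx, hPx⟩ := ih
        have hk' : P (k + 1) ∈ R := by rw [hPs]; exact mul_mem hd (hgR _ hk)
        refine ⟨hk', (d ^ (k + 1))⁻¹ * P (k + 1), mul_mem (inv_mem (pow_mem hd _)) hk', ?_, by group⟩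
        -- `σ` preserves the centraliser of `c`
        have hgx : c * (g * x * g⁻¹) = g * x * g⁻¹ * c := by
          have h1 : g * c * g⁻¹ * (g * x * g⁻¹) = g * x * g⁻¹ * (g * c * g⁻¹) := by
            calc g * c * g⁻¹ * (g * x * g⁻¹) = g * (c * x) * g⁻¹ := by group
              _ = g * (x * c) * g⁻¹ := by rw [hcx]
              _ = _ := by group
          rw [show g * c * g⁻¹ = g * c * g⁻¹ * c⁻¹ * c by group, mul_assoc _ c,
            ← mul_assoc (g * x * g⁻¹) _ c, cenOf_comm hgc (hgR x hx), mul_assoc _ (g * x * g⁻¹) c] at h1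
          exact mul_left_cancel h1
        have he : ∀ j, c * ((d ^ j)⁻¹ * (g * d ^ j * g⁻¹)) = (d ^ j)⁻¹ * (g * d ^ j * g⁻¹) * c := fun j =>
          h.disp_comm hgR hgZ hc hgc (pow_mem hd j)
        have hcm : Commute c ((d ^ k)⁻¹ * (g * d ^ k * g⁻¹) * (g * x * g⁻¹)) :=
          Commute.mul_right (he k) hgx
        have e : (d ^ (k + 1))⁻¹ * P (k + 1) = (d ^ k)⁻¹ * (g * d ^ k * g⁻¹) * (g * x * g⁻¹) := by
          rw [hPs, hPx, pow_succ']
          group
        rw [e]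
        exact hcm
    set r := orderOf g with hr
    obtain ⟨hPrR, x, hx, hcx, hPx⟩ := hPR r
    have hPfix : g * P r * g⁻¹ * (P r)⁻¹ ∈ cenOf R := by
      have h1 := hPs r
      rw [hPs' r, inv_pow, pow_orderOf_eq_one, inv_one, one_mul, mul_one] at h1
      have h2 : g * P r * g⁻¹ = d⁻¹ * P r * d := by
        rw [mul_assoc d⁻¹, h1]
        group
      rw [h2, show d⁻¹ * P r * d * (P r)⁻¹ = d⁻¹ * P r * d⁻¹⁻¹ * (P r)⁻¹ by rw [inv_inv]]
      exact h.comm_cen (inv_mem hd) hPrR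
    have hcr : Commute c (d ^ r) := by
      have h1 : Commute c (P r) := hfix _ hPrR hPfix
      rw [hPx] at h1
      have h2 := h1.mul_right (show Commute c x from hcx).inv_right
      rwa [mul_inv_cancel_right] at h2
    obtain ⟨m, hm⟩ := hgo
    have hc2 : Commute c ((d * d) ^ m) := (show Commute c (d * d) from cenOf_comm (h.sq_cen d hd) hc).pow_right m
    have e : d = d ^ r * ((d * d) ^ m)⁻¹ := by
      rw [hm, ← pow_two, ← pow_mul, pow_succ']
      group
    show c * d = d * c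
    rw [e]
    exact hcr.mul_right hc2.inv_right
  exact hcZ (mem_cenOf.2 ⟨hc, fun y hy => (hall y hy).symm⟩)

end Cfsg.Lib.BenderSE.Ring2
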