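/-
Unitary-type Sylow 2-subgroups: transport to subgroups and quotients; a normal centre.
-/
import Cfsg.Agent.BenderSE.Ring2.CentralKernel
import Cfsg.Agent.Transfer.Fusion

set_option autoImplicit false
set_option linter.unusedSectionVars false
set_option linter.style.haveILetI false

namespace Cfsg.Lib.BenderSE.Ring2

open Subgroup

universe u

variable {G : Type u} [Group G] [Finite G] {q : ℕ}

theorem uType_subgroupOf {R C : Subgroup G} (h : UType R q) (hRC : R ≤ C) : UType (R.subgroupOf C) q :=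
  UType.of_equiv (subgroupOfEquivOfLe hRC) h

theorem mem_cenOf_subgroupOf {R C : Subgroup G} (hRC : R ≤ C) {x : C} :
    x ∈ cenOf (R.subgroupOf C) ↔ (x : G) ∈ cenOf R := by
  rw [← cenOf_map C.subtype C.subtype_injective, map_subgroupOf_eq_of_le hRC]
  rfl

/-- the image in the quotient by an odd normal subgroup -/
theorem uType_quot (S : Sylow 2 G) (h : UType (S : Subgroup G) q) (N : Subgroup G) [N.Normal]
    (hN : Odd (Nat.card N)) :
    UType ((S : Subgroup G).map (QuotientGroup.mk' N)) q ∧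
      ∀ z ∈ cenOf (S : Subgroup G), QuotientGroup.mk' N z ∈ cenOf ((S : Subgroup G).map (QuotientGroup.mk' N)) := by
  set R := (S : Subgroup G)
  set π := QuotientGroup.mk' N
  have hinj : Function.Injective (π.subgroupMap R) := by
    refine (injective_iff_map_eq_one _).2 fun x hx => Subtype.ext ?_
    exact eq_one_of_mem_odd S N hN x.2 ((QuotientGroup.eq_one_iff _).1 (congrArg Subtype.val hx))
  refine ⟨UType.of_equiv (MulEquiv.ofBijective _ ⟨hinj, π.subgroupMap_surjective R⟩).symm h, fun z hz => ?_⟩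
  refine mem_cenOf.2 ⟨mem_map_of_mem π hz.1, ?_⟩
  rintro _ ⟨y, hy, rfl⟩
  rw [← map_mul, ← map_mul, cenOf_comm hz hy]

/-- normalising the Sylow subgroup, one normalises its centre -/
theorem normalizer_le_normalizer_cenOf (R : Subgroup G) :
    normalizer (R : Set G) ≤ normalizer (cenOf R : Set G) := by
  intro g hg
  refine mem_normalizer_of_maps_to ?_
  intro z hz
  refine mem_cenOf.2 ⟨(mem_normalizer_iff.1 hg z).1 hz.1, fun y hy => ?_⟩
  have h1 := cenOf_comm hz ((mem_normalizer_iff''.1 hg y).1 hy)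
  calc y * (g * z * g⁻¹) = g * (g⁻¹ * y * g * z) * g⁻¹ := by group
    _ = g * (z * (g⁻¹ * y * g)) * g⁻¹ := by rw [h1]
    _ = g * z * g⁻¹ * y := by group

theorem UType.one_lt_cen {R : Subgroup G} (h : UType R q) : ∃ z ∈ cenOf R, z ≠ 1 := by
  by_contra h0
  push Not at h0
  have h1 := h.card_cen
  rw [show cenOf R = ⊥ from (Subgroup.eq_bot_iff_forall _).2 h0, card_bot] at h1
  have := h.big
  omega

theorem UType.cen_sq {R : Subgroup G} (h : UType R q) {z : G} (hz : z ∈ cenOf R) : z ^ 2 = 1 := by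
  rw [pow_two]; exact (h.cen_iff z hz.1).2 hz

theorem UType.cen_comm {R : Subgroup G} : IsMulCommutative (cenOf R) :=
  ⟨⟨fun a b => Subtype.ext (cenOf_comm b.2 a.2.1)⟩⟩

theorem UType.rank {R : Subgroup G} (h : UType R q) : ¬ Cfsg.PRankLE 2 2 G := fun hle => by
  have h1 := hle (cenOf R) UType.cen_comm fun a ha => h.cen_sq ha
  rw [h.card_cen] at h1
  have := h.big
  omega

theorem UType.connected (S : Sylow 2 G) (h : UType (S : Subgroup G) q) :
    Cfsg.IsFourConnected (S : Subgroup G) := by
  set R := (S : Subgroup G)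
  have hle : cenOf R ≤ R := fun x hx => hx.1
  haveI : ((cenOf R).subgroupOf R).Normal := ⟨fun x hx g => by
    refine mem_subgroupOf.2 ?_
    have hgx : ((g * x * g⁻¹ : R) : G) = (x : G) := by
      show (g : G) * x * (g : G)⁻¹ = x
      rw [cenOf_comm (show (x : G) ∈ cenOf R from hx) g.2, mul_inv_cancel_right]
    rw [hgx]
    exact hx⟩
  refine Cfsg.Lib.Misc.FourConnected.connected_of_normal S.2 ((cenOf R).subgroupOf R)
    ⟨⟨fun a b => Subtype.ext (Subtype.ext (cenOf_comm b.2 (a : R).2))⟩⟩
    (fun e he => Subtype.ext (by rw [SubgroupClass.coe_pow]; exact h.cen_sq he)) ?_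
  rw [Nat.card_congr (subgroupOfEquivOfLe hle).toEquiv, h.card_cen]
  exact h.big

/-- `Z(S)` normal, its elements with solvable centralisers: `S` is normal -/
theorem normal_of_cen_normal (reg : RegProp.{u}) (S : Sylow 2 G) (h : UType (S : Subgroup G) q)
    (hO : Cfsg.oddCore G = ⊥) (hn : (cenOf (S : Subgroup G)).Normal) : (S : Subgroup G).Normal := by
  haveI : Fact (Nat.Prime 2) := ⟨Nat.prime_two⟩
  haveI := hn
  set R := (S : Subgroup G) with hR
  set C := centralizer (cenOf R : Set G) with hC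
  haveI : C.Normal := by
    rw [← normalizer_eq_top_iff, eq_top_iff]
    exact (le_of_eq (normalizer_eq_top_iff.2 hn).symm).trans (Cfsg.Lib.Components.normalizer_le_normalizer_centralizer' _)
  have hRC : R ≤ C := fun x hx => mem_centralizer_iff.2 fun z hz => (cenOf_comm hz hx).symm
  have hO' : Cfsg.oddCore C = ⊥ := by
    haveI : (Cfsg.oddCore C).Characteristic := inferInstance
    have hle : (Cfsg.oddCore C).map C.subtype ≤ Cfsg.oddCore G := Cfsg.Lib.Components.le_pPrimeCore
      (Nat.coprime_two_right.2 (by rw [card_map_of_injective C.subtype_injective]; exact odd_oddCore))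
    rw [hO, le_bot_iff, Subgroup.map_eq_bot_iff_of_injective _ C.subtype_injective] at hle
    exact hle
  have hn' : ((S.subtype hRC : Sylow 2 C) : Subgroup C).Normal :=
    sylow_normal_of_central reg (S.subtype hRC) (uType_subgroupOf h hRC) hO' fun x hx => by
      refine mem_center_iff.2 fun y => Subtype.ext ?_
      exact (mem_centralizer_iff.1 y.2 _ ((mem_cenOf_subgroupOf hRC).1 hx)).symm
  refine ⟨fun x hx g => ?_⟩
  have hgC : ((g • S : Sylow 2 G) : Subgroup G) ≤ C := by
    rintro _ ⟨y, hy, rfl⟩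
    exact (inferInstance : C.Normal).conj_mem y (hRC hy) g
  have hsub : ((g • S : Sylow 2 G).subtype hgC : Sylow 2 C) = S.subtype hRC := by
    haveI := Sylow.unique_of_normal (S.subtype hRC) hn'
    exact Subsingleton.elim _ _
  have hmem : (⟨g * x * g⁻¹, hgC ⟨x, hx, rfl⟩⟩ : C) ∈ ((g • S : Sylow 2 G).subtype hgC : Sylow 2 C) :=
    (⟨x, hx, rfl⟩ : g * x * g⁻¹ ∈ ((g • S : Sylow 2 G) : Subgroup G))
  rw [hsub] at hmem
  exact hmem

end Cfsg.Lib.BenderSE.Ring2
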