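/-
A unitary-type Sylow 2-subgroup and a central involution: the Sylow subgroup is normal modulo the odd core.
-/
import Cfsg.Agent.BenderSE.Ring2.UBasic
import Cfsg.Agent.BenderSE.Ring2.AbelianFour

set_option autoImplicit false
set_option linter.unusedSectionVars false
set_option linter.style.haveILetI false

namespace Cfsg.Lib.BenderSE.Ring2

open Subgroup Cfsg.Lib.InvolCalc Cfsg.Lib.StrongEmb

universe u

variable {G : Type u} [Group G] [Finite G] {q : ℕ}

/-- the centraliser of a noncentral element is solvable -/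
theorem solvable_noncentral (reg : RegProp.{u}) (S : Sylow 2 G) (h : UType (S : Subgroup G) q) {x : G}
    (hx : x ∈ (S : Subgroup G)) (hxZ : x ∉ cenOf (S : Subgroup G)) :
    Group.IsSolvable (centralizer ({x} : Set G)) := by
  haveI : Fact (Nat.Prime 2) := ⟨Nat.prime_two⟩
  set C := centralizer ({x} : Set G)
  have U : Sylow 2 C := default
  obtain ⟨S', hS'⟩ := (U.2.map C.subtype).exists_le_sylow
  obtain ⟨g, hg⟩ := MulAction.exists_smul_eq G S S'
  have he : (S : Subgroup G).map (MulAut.conj g).toMonoidHom = (S' : Subgroup G) := by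
    rw [← hg]; rfl
  have h' : UType (S' : Subgroup G) q := he ▸ h.map _ (MulAut.conj g).injective
  set R' := (S' : Subgroup G)
  have hUeq : (U : Subgroup C) = R'.subgroupOf C :=
    (U.3 (show IsPGroup 2 (R'.subgroupOf C) from S'.2.comap_subtype) fun y hy => hS' ⟨y, hy, rfl⟩).symm
  -- `x` lies in every Sylow subgroup of its centraliser
  have hxC : x ∈ C := mem_centralizer_singleton_iff.2 rfl
  have hxU : (⟨x, hxC⟩ : C) ∈ (U : Subgroup C) := by
    have hP : IsPGroup 2 ↥((U : Subgroup C) ⊔ zpowers (⟨x, hxC⟩ : C)) := by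
      refine IsPGroup.to_sup_of_normal_right' U.2 ?_ ?_
      · intro y
        obtain ⟨y, hy⟩ := y
        obtain ⟨k, rfl⟩ := mem_zpowers_iff.1 hy
        obtain ⟨j, hj⟩ := IsPGroup.iff_orderOf.1 S.2 ⟨x, hx⟩
        rw [Subgroup.orderOf_mk] at hj
        refine ⟨j, Subtype.ext ?_⟩
        rw [SubgroupClass.coe_pow, OneMemClass.coe_one, ← zpow_natCast, ← zpow_mul, mul_comm, zpow_mul, zpow_natCast,
          show (⟨x, hxC⟩ : C) ^ 2 ^ j = 1 from Subtype.ext (by
            rw [SubgroupClass.coe_pow, ← hj]; exact pow_orderOf_eq_one x), one_zpow]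
      · intro y _
        refine mem_normalizer_of_maps_to fun z hz => ?_
        obtain ⟨k, rfl⟩ := mem_zpowers_iff.1 hz
        have hc : Commute y (⟨x, hxC⟩ : C) := Subtype.ext (mem_centralizer_singleton_iff.1 y.2)
        rw [(hc.zpow_right k).eq, mul_inv_cancel_right]
        exact zpow_mem (mem_zpowers _) k
    exact (U.3 hP le_sup_left).le (mem_sup_right (mem_zpowers _))
  have hx' : x ∈ R' := hS' ⟨_, hxU, rfl⟩
  have hxZ' : x ∉ cenOf R' := fun e => hxZ ((h.cen_iff x hx).1 ((h'.cen_iff x hx').2 e))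
  refine solvable_of_abFour reg U ?_
  rw [hUeq]
  refine abFour_subgroupOf ⟨fun a ha b hb => ?_, fun a ha => ?_, fun i hi hi2 => ?_⟩
  · exact h'.trans a ha.1 x hx' b hb.1 hxZ' (mem_centralizer_singleton_iff.1 ha.2)
      (mem_centralizer_singleton_iff.1 hb.2).symm
  · rw [show (4 : ℕ) = 2 * 2 from rfl, pow_mul, pow_two a]
    exact h'.cen_sq (h'.sq_cen a ha.1)
  · obtain ⟨y, hy, hxy, hyy⟩ := h'.sqr x hx' hxZ' i ((h'.cen_iff i hi.1).1 hi2)
    exact ⟨y, ⟨hy, mem_centralizer_singleton_iff.2 hxy.symm⟩, hyy⟩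

/-- THE CASE -/
theorem normal_of_central_invol (reg : RegProp.{u}) (S : Sylow 2 G) (h : UType (S : Subgroup G) q)
    (hO : Cfsg.oddCore G = ⊥)
    (hsolC : ∀ b ∈ cenOf (S : Subgroup G), centralizer ({b} : Set G) ≠ ⊤ →
      Group.IsSolvable (centralizer ({b} : Set G)))
    (hne : cenOf (S : Subgroup G) ⊓ center G ≠ ⊥) : (S : Subgroup G).Normal := by
  haveI : Fact (Nat.Prime 2) := ⟨Nat.prime_two⟩
  set R := (S : Subgroup G) with hR
  set Z := cenOf R with hZ
  set Z0 := Z ⊓ center G with hZ0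
  by_cases hall : Z ≤ center G
  · exact sylow_normal_of_central reg S h hO hall
  have hZR : Z ≤ R := fun z hz => hz.1
  have hZ0R : Z0 ≤ R := inf_le_left.trans hZR
  haveI : Z0.Normal := ⟨fun z hz g => by
    rw [mem_center_iff.1 hz.2 g, mul_inv_cancel_right]; exact hz⟩
  set π := QuotientGroup.mk' Z0 with hπ
  have hsurj : Function.Surjective π := QuotientGroup.mk'_surjective Z0
  set V := S.mapSurjective hsurj with hV
  have hOX : Cfsg.oddCore (G ⧸ Z0) = ⊥ := oddCore_quot_bot hO S Z0 hZ0R inf_le_right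
  have hmemV : ∀ x, x ∈ R → π x ∈ (V : Subgroup (G ⧸ Z0)) := fun x hx => by
    rw [hV, Sylow.coe_mapSurjective]; exact mem_map_of_mem _ hx
  have hVmem : ∀ y ∈ (V : Subgroup (G ⧸ Z0)), ∃ x ∈ R, π x = y := fun y hy => by
    rw [hV, Sylow.coe_mapSurjective] at hy; exact hy
  have hpre : ∀ g, π g ∈ (V : Subgroup (G ⧸ Z0)) → g ∈ R := by
    intro g hg
    obtain ⟨x, hx, he⟩ := hVmem _ hg
    simpa using mul_mem hx (hZ0R (QuotientGroup.eq.1 he))
  have hπ1 : ∀ {g : G}, π g = 1 ↔ g ∈ Z0 := fun {g} => QuotientGroup.eq_one_iff g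
  -- an element with central square, and its elementary image
  obtain ⟨x, hx, hxZ, hxx⟩ : ∃ x ∈ R, x ∉ Z ∧ x * x ∈ Z0 := by
    obtain ⟨x₀, hx₀, hx₀Z⟩ : ∃ x ∈ R, x ∉ Z := by
      by_contra h0
      push Not at h0
      have h1 := card_dvd_of_le (show R ≤ Z from h0)
      rw [h.card_all, h.card_cen] at h1
      have hq := h.big
      have h2 : q ^ 3 ≤ q := Nat.le_of_dvd (by omega) h1
      have h3 : q < q ^ 3 := lt_self_pow₀ (by omega) (by norm_num)
      omega
    obtain ⟨a, ha, ha1⟩ : ∃ a ∈ Z0, a ≠ 1 := by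
      by_contra h0
      push Not at h0
      exact hne ((Subgroup.eq_bot_iff_forall _).2 h0)
    obtain ⟨y, hy, -, hyy⟩ := h.sqr x₀ hx₀ hx₀Z a ha.1
    exact ⟨y, hy, fun e => ha1 (by rw [← hyy]; exact (h.cen_iff y hy).2 e), hyy ▸ ha⟩
  let E : Subgroup G :=
    { carrier := {y | y ∈ R ∧ x * y = y * x ∧ y * y ∈ Z0}
      one_mem' := ⟨one_mem _, by rw [mul_one, one_mul], by rw [mul_one]; exact one_mem _⟩
      mul_mem' := fun {a b} ha hb => ⟨mul_mem ha.1 hb.1,
        (Commute.mul_right (show Commute x a from ha.2.1) (show Commute x b from hb.2.1)).eq, by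
          have hc := h.trans b hb.1 x hx a ha.1 hxZ hb.2.1.symm ha.2.1
          rw [show a * b * (a * b) = a * (b * a) * b by group, hc,
            show a * (a * b) * b = a * a * (b * b) by group]
          exact mul_mem ha.2.2 hb.2.2⟩
      inv_mem' := fun {a} ha => ⟨inv_mem ha.1, (show Commute x a from ha.2.1).inv_right.eq, by
        rw [← mul_inv_rev]; exact inv_mem ha.2.2⟩ }
  have hEmem : ∀ y, y ∈ E ↔ y ∈ R ∧ x * y = y * x ∧ y * y ∈ Z0 := fun y => Iff.rfl
  have hEc : ∀ a ∈ E, ∀ b ∈ E, a * b = b * a := fun a ha b hb =>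
    h.trans a ha.1 x hx b hb.1 hxZ ha.2.1.symm hb.2.1
  have hER : E ≤ R := fun y hy => hy.1
  have hZE : Z ≤ E := fun z hz => ⟨hz.1, cenOf_comm hz hx, by
    rw [(h.cen_iff z hz.1).2 hz]; exact one_mem _⟩
  -- counting
  set Eb := E.map π with hEb
  have hEb8 : 8 ≤ Nat.card Eb := by
    haveI : IsMulCommutative E := ⟨⟨fun a b => Subtype.ext (hEc a a.2 b b.2)⟩⟩
    open scoped IsMulCommutative in
    let sqh : E →* E := powMonoidHom 2
    have hcoe : ∀ w : E, ((sqh w : E) : G) = (w : G) * w := fun w => by simp [sqh, pow_two]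
    have hker : Nat.card sqh.ker = q := by
      rw [← h.card_cen]
      refine Nat.card_congr ⟨fun w => ⟨((w : E) : G), (h.cen_iff _ (hER (w : E).2)).1 ?_⟩,
        fun z => ⟨⟨z.1, hZE z.2⟩, ?_⟩, fun _ => rfl, fun _ => rfl⟩
      · rw [← hcoe, MonoidHom.mem_ker.1 w.2]; rfl
      · refine MonoidHom.mem_ker.2 (Subtype.ext ?_)
        rw [hcoe]
        exact (h.cen_iff _ z.2.1).2 z.2
    have hrange : Nat.card sqh.range = Nat.card Z0 := by
      refine Nat.card_congr ⟨fun w => ⟨((w : E) : G), ?_⟩, fun z => ⟨⟨z.1, hZE z.2.1⟩, ?_⟩,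
        fun _ => rfl, fun _ => rfl⟩
      · obtain ⟨y, hy⟩ := w.2
        rw [← hy, hcoe]
        exact y.2.2.2
      · obtain ⟨y, hy, hxy, hyy⟩ := h.sqr x hx hxZ z.1 z.2.1
        exact ⟨⟨y, hy, hxy, hyy ▸ z.2⟩, Subtype.ext (by rw [hcoe]; exact hyy)⟩
    have hE : Nat.card E = q * Nat.card Z0 := by
      rw [← sqh.ker.card_mul_index, Subgroup.index_ker, hker, hrange]
    have h1 : Nat.card Z0 * Nat.card Eb = Nat.card E := by
      rw [hEb, ← relIndex_bot_left (E.map π), ← relIndex_comap, MonoidHom.comap_bot, QuotientGroup.ker_mk',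
        ← relIndex_bot_left Z0, relIndex_mul_relIndex _ _ _ bot_le (inf_le_left.trans hZE), relIndex_bot_left]
    have h2 : Nat.card Eb = q := Nat.eq_of_mul_eq_mul_left (Nat.card_pos (α := Z0)) (by
      rw [h1, hE, mul_comm])
    rw [h2]
    exact h.big
  have hEb2 : ∀ y ∈ Eb, y ^ 2 = 1 := by
    rintro _ ⟨a, ha, rfl⟩
    rw [pow_two, ← map_mul, hπ1]
    exact ha.2.2
  have hEbc : IsMulCommutative Eb := by
    refine ⟨⟨?_⟩⟩
    rintro ⟨_, a, ha, rfl⟩ ⟨_, b, hb, rfl⟩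
    exact Subtype.ext (by show π a * π b = π b * π a; rw [← map_mul, ← map_mul, hEc a ha b hb])
  have h3 : ¬ Cfsg.PRankLE 2 2 (G ⧸ Z0) := fun hle => by
    have h1 := hle Eb hEbc hEb2
    omega
  have hEbV : Eb ≤ (V : Subgroup (G ⧸ Z0)) := by
    rintro _ ⟨a, ha, rfl⟩; exact hmemV a (hER ha)
  have hconn : Cfsg.IsFourConnected (V : Subgroup (G ⧸ Z0)) := by
    haveI : (Eb.subgroupOf (V : Subgroup (G ⧸ Z0))).Normal := ⟨fun w hw g => by
      obtain ⟨a, ha, hae⟩ := (show (w : G ⧸ Z0) ∈ Eb from hw)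
      obtain ⟨d, hd, hde⟩ := hVmem _ g.2
      refine ⟨d * a * d⁻¹, ?_, by
        show π (d * a * d⁻¹) = (g : G ⧸ Z0) * w * (g : G ⧸ Z0)⁻¹
        rw [map_mul, map_mul, map_inv, hde, hae]⟩
      refine ⟨mul_mem (mul_mem hd ha.1) (inv_mem hd), h.conj_comm hx hd ha.1 ha.2.1, ?_⟩
      rw [show d * a * d⁻¹ * (d * a * d⁻¹) = d * (a * a) * d⁻¹ by group, mem_center_iff.1 ha.2.2.2 d,
        mul_inv_cancel_right]
      exact ha.2.2⟩
    refine Cfsg.Lib.Misc.FourConnected.connected_of_normal V.2 (Eb.subgroupOf _) ⟨⟨fun a b => ?_⟩⟩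
      (fun e he => Subtype.ext (by rw [SubgroupClass.coe_pow]; exact hEb2 _ he)) ?_
    · have h0 := hEbc.is_comm.comm (⟨((a : (V : Subgroup (G ⧸ Z0))) : G ⧸ Z0), a.2⟩ : Eb)
        ⟨((b : (V : Subgroup (G ⧸ Z0))) : G ⧸ Z0), b.2⟩
      have h1 : ((a : (V : Subgroup (G ⧸ Z0))) : G ⧸ Z0) * (b : (V : Subgroup (G ⧸ Z0))) =
          ((b : (V : Subgroup (G ⧸ Z0))) : G ⧸ Z0) * (a : (V : Subgroup (G ⧸ Z0))) := congrArg Subtype.val h0
      exact Subtype.ext (Subtype.ext h1)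
    · rw [Nat.card_congr (subgroupOfEquivOfLe hEbV).toEquiv]; exact hEb8
  -- the involutions of `V` lift to elements with square in `Z0`
  have hlift : ∀ t ∈ (V : Subgroup (G ⧸ Z0)), orderOf t = 2 →
      ∃ s ∈ R, π s = t ∧ s ∉ Z0 ∧ s * s ∈ Z0 := by
    intro t ht ho
    obtain ⟨s, hs, rfl⟩ := hVmem t ht
    exact ⟨s, hs, rfl, fun e => by rw [hπ1.2 e, orderOf_one] at ho; omega,
      hπ1.1 (by rw [map_mul]; exact sq_of_order_two ho)⟩
  -- solvable centralisers
  have hsol : ∀ t : G ⧸ Z0, orderOf t = 2 → Group.IsSolvable (centralizer ({t} : Set (G ⧸ Z0))) := by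
    refine solvable_centralizers V fun t ht ho => ?_
    obtain ⟨s, hs, rfl, hs0, hss⟩ := hlift t ht ho
    have hCs : Group.IsSolvable (centralizer ({s} : Set G)) := by
      by_cases hsZ : s ∈ Z
      · refine hsolC s hsZ fun htop => hs0 ⟨hsZ, mem_center_iff.2 fun g => ?_⟩
        exact mem_centralizer_singleton_iff.1 (htop ▸ mem_top g)
      · exact solvable_noncentral reg S h hs hsZ
    set D := (centralizer ({π s} : Set (G ⧸ Z0))).comap π with hD
    have hmemD : ∀ d, d ∈ D ↔ d * s * d⁻¹ * s⁻¹ ∈ Z0 := fun d => by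
      rw [hD, mem_comap, mem_centralizer_singleton_iff, ← hπ1, map_mul, map_mul, map_mul, map_inv, map_inv,
        mul_inv_eq_one, mul_inv_eq_iff_eq_mul]
    let φ : D →* Z0 := MonoidHom.mk' (fun d => ⟨(d : G) * s * (d : G)⁻¹ * s⁻¹, (hmemD d).1 d.2⟩)
      fun a b => Subtype.ext (by
        have hb := mem_center_iff.1 ((hmemD b).1 b.2).2
        show (a : G) * b * s * ((a : G) * b)⁻¹ * s⁻¹ =
          (a : G) * s * (a : G)⁻¹ * s⁻¹ * ((b : G) * s * (b : G)⁻¹ * s⁻¹)
        calc (a : G) * b * s * ((a : G) * b)⁻¹ * s⁻¹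
            = ((a : G) * ((b : G) * s * (b : G)⁻¹ * s⁻¹)) * s * (a : G)⁻¹ * s⁻¹ := by group
          _ = (((b : G) * s * (b : G)⁻¹ * s⁻¹) * (a : G)) * s * (a : G)⁻¹ * s⁻¹ := by rw [hb]
          _ = ((b : G) * s * (b : G)⁻¹ * s⁻¹) * ((a : G) * s * (a : G)⁻¹ * s⁻¹) := by group
          _ = _ := (hb _).symm)
    have hker : Group.IsSolvable φ.ker := by
      haveI := hCs
      let f : φ.ker →* centralizer ({s} : Set G) :=
        MonoidHom.mk' (fun d => ⟨((d : D) : G), mem_centralizer_singleton_iff.2 (mul_inv_eq_iff_eq_mul.1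
          (mul_inv_eq_one.1 (congrArg Subtype.val (MonoidHom.mem_ker.1 d.2))))⟩) fun _ _ => rfl
      refine Group.isSolvable_of_isSolvable_injective (f := f) fun a b hab => ?_
      exact Subtype.ext (Subtype.ext (congrArg Subtype.val hab :))
    have hDs : Group.IsSolvable D := by
      haveI := hker
      haveI : Group.IsSolvable Z0 := Group.isSolvable_of_comm fun a b =>
        Subtype.ext (mem_center_iff.1 b.2.2 a.1)
      exact Group.isSolvable_of_ker_le_range φ.ker.subtype φ (by simp)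
    haveI := hDs
    exact Group.isSolvable_of_surjective (f := π.subgroupComap (centralizer ({π s} : Set (G ⧸ Z0))))
      (MonoidHom.subgroupComap_surjective_of_surjective _ _ hsurj)
  -- all of them normalise the image of the centre
  set Zb := Z.map π with hZb
  have hZbV : Zb ≤ (V : Subgroup (G ⧸ Z0)) := by
    rintro _ ⟨z, hz, rfl⟩; exact hmemV z (hZR hz)
  have hZbc : ∀ z ∈ Zb, ∀ s ∈ (V : Subgroup (G ⧸ Z0)), s * z = z * s := by
    rintro _ ⟨z, hz, rfl⟩ s hs
    obtain ⟨d, hd, rfl⟩ := hVmem s hs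
    rw [← map_mul, ← map_mul, cenOf_comm hz hd]
  have hNR : normalizer ((V : Subgroup (G ⧸ Z0)) : Set (G ⧸ Z0)) ≤ normalizer (Zb : Set (G ⧸ Z0)) := by
    intro w hw
    obtain ⟨g, rfl⟩ := hsurj w
    have hg : g ∈ normalizer (R : Set G) := mem_normalizer_of_maps_to fun y hy => hpre _ (by
      rw [map_mul, map_mul, map_inv]; exact (mem_normalizer_iff.1 hw _).1 (hmemV y hy))
    exact le_normalizer_map π ⟨g, normalizer_le_normalizer_cenOf R hg, rfl⟩
  set M := normalizer (Zb : Set (G ⧸ Z0)) with hM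
  have hVM : (V : Subgroup (G ⧸ Z0)) ≤ M := le_normalizer.trans hNR
  have hNC : ∀ t : G ⧸ Z0, t ∈ (V : Subgroup (G ⧸ Z0)) → orderOf t = 2 →
      (V : Subgroup (G ⧸ Z0)) ≤ centralizer ({t} : Set (G ⧸ Z0)) →
      centralizer ({t} : Set (G ⧸ Z0)) ≤ M := by
    intro t ht ho htc
    obtain ⟨P, hPV, hZP, hCP⟩ := le_normalizer_of_charTwo (charTwo_centralizer reg hOX h3 V hconn hsol ho) V
      htc Zb hZbV hZbc
    intro w hw
    refine mem_normalizer_of_maps_to ?_
    rintro _ ⟨z, hz, rfl⟩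
    have h1 := (mem_normalizer_iff.1 (hCP hw) _).1 (hZP (mem_map_of_mem π hz))
    obtain ⟨g, rfl⟩ := hsurj w
    have h2 : π (g * z * g⁻¹) = π g * π z * (π g)⁻¹ := by rw [map_mul, map_mul, map_inv]
    rw [← h2] at h1 ⊢
    have h3 := hpre _ (hPV h1)
    exact mem_map_of_mem π ((h.cen_iff _ h3).1 (by
      rw [show g * z * g⁻¹ * (g * z * g⁻¹) = g * (z * z) * g⁻¹ by group, (h.cen_iff z hz.1).2 hz,
        mul_one, mul_inv_cancel]))
  -- non-central involutions: their centralisers too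
  have hCall : ∀ t ∈ (V : Subgroup (G ⧸ Z0)), orderOf t = 2 → centralizer ({t} : Set (G ⧸ Z0)) ≤ M := by
    intro t ht ho
    have hC2 := charTwo_centralizer reg hOX h3 V hconn hsol ho
    set C := centralizer ({t} : Set (G ⧸ Z0))
    have hZC : Zb ≤ C := fun z hz => mem_centralizer_singleton_iff.2 (hZbc z hz t ht).symm
    obtain ⟨U, hU⟩ := (show IsPGroup 2 (((V : Subgroup (G ⧸ Z0)) ⊓ C).subgroupOf C) from
      (V.2.to_le inf_le_left).comap_subtype).exists_le_sylow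
    set Q := Cfsg.pCore 2 C
    haveI : Q.Normal := Cfsg.Lib.Components.pCore_normal' 2
    have hQU : Q ≤ (U : Subgroup C) :=
      Cfsg.Lib.Thompson.le_sylow_of_normal (Cfsg.Lib.Components.isPGroup_pCore 2) _
    obtain ⟨V', hV'⟩ := (U.2.map C.subtype).exists_le_sylow
    obtain ⟨a, ha⟩ := MulAction.exists_smul_eq (G ⧸ Z0) V V'
    have hV'mem : ∀ y ∈ (V' : Subgroup (G ⧸ Z0)), ∃ d ∈ R, a * π d * a⁻¹ = y := by
      intro y hy
      rw [← ha] at hy
      obtain ⟨w, hw, rfl⟩ := hy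
      obtain ⟨d, hd, rfl⟩ := hVmem w hw
      exact ⟨d, hd, rfl⟩
    obtain ⟨g', hg'⟩ := hsurj a
    -- `Zb` is central in `V'`
    have hlz : ∀ z ∈ Z, π z ∈ (V' : Subgroup (G ⧸ Z0)) ∧ ∃ z' ∈ Z, a * π z' * a⁻¹ = π z := by
      intro z hz
      have h1 : π z ∈ (V' : Subgroup (G ⧸ Z0)) :=
        hV' ⟨⟨π z, hZC (mem_map_of_mem π hz)⟩, hU ⟨hZbV (mem_map_of_mem π hz), hZC (mem_map_of_mem π hz)⟩, rfl⟩
      obtain ⟨d, hd, hde⟩ := hV'mem _ h1
      refine ⟨h1, d, ?_, hde⟩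
      rw [← hg', ← map_inv, ← map_mul, ← map_mul] at hde
      have h2 := QuotientGroup.eq.1 hde
      refine (h.cen_iff d hd).1 ?_
      set e := (g' * d * g'⁻¹)⁻¹ * z with he
      have hec := mem_center_iff.1 h2.2
      have he2 : e * e = 1 := (h.cen_iff e h2.1.1).2 h2.1
      have hz2 : z * z = 1 := (h.cen_iff z hz.1).2 hz
      have hzd : g' * d * g'⁻¹ = z * e := by
        rw [show z * e = z * e⁻¹ by rw [inv_eq_of_mul_eq_one_right he2], he]
        group
      calc d * d = g'⁻¹ * (g' * d * g'⁻¹ * (g' * d * g'⁻¹)) * g' := by group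
        _ = g'⁻¹ * (z * (e * z) * e) * g' := by rw [hzd]; group
        _ = g'⁻¹ * ((z * z) * (e * e)) * g' := by rw [← hec z]; group
        _ = 1 := by rw [hz2, he2]; group
    have hZQ : ∀ z ∈ Z, π z ∈ Q.map C.subtype := by
      intro z hz
      obtain ⟨-, z', hz', hze⟩ := hlz z hz
      refine ⟨⟨π z, hZC (mem_map_of_mem π hz)⟩, hC2 (mem_centralizer_iff.2 fun y hy => Subtype.ext ?_), rfl⟩
      obtain ⟨d, hd, hde⟩ := hV'mem _ (hV' ⟨y, hQU hy, rfl⟩)
      show (y : G ⧸ Z0) * π z = π z * y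
      rw [show (y : G ⧸ Z0) = a * π d * a⁻¹ from hde.symm, ← hze]
      have hc : π d * π z' = π z' * π d := by rw [← map_mul, ← map_mul, cenOf_comm hz' hd]
      calc a * π d * a⁻¹ * (a * π z' * a⁻¹) = a * (π d * π z') * a⁻¹ := by group
        _ = a * (π z' * π d) * a⁻¹ := by rw [hc]
        _ = _ := by group
    intro w hw
    refine mem_normalizer_of_maps_to ?_
    rintro _ ⟨z, hz, rfl⟩
    have hN : C ≤ normalizer (Q.map C.subtype : Set (G ⧸ Z0)) := fun y hy =>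
      (le_normalizer_map C.subtype) ⟨⟨y, hy⟩, le_normalizer_of_normal (mem_top _), rfl⟩
    obtain ⟨⟨v, hvC⟩, hvQ, hve⟩ := (mem_normalizer_iff.1 (hN hw) _).1 (hZQ z hz)
    obtain ⟨d, hd, hde⟩ := hV'mem v (hV' ⟨_, hQU hvQ, rfl⟩)
    obtain ⟨g, hg⟩ := hsurj w
    rw [← hg, ← map_inv, ← map_mul, ← map_mul] at hve ⊢
    rw [← hg', ← map_inv, ← map_mul, ← map_mul] at hde
    have hve' : v = π (g * z * g⁻¹) := hve
    rw [← hve', ← hde]
    -- `d` is an involution up to `Z0`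
    have hd2 : d * d = 1 := by
      have h2 := QuotientGroup.eq.1 (hde.trans hve')
      set e := (g' * d * g'⁻¹)⁻¹ * (g * z * g⁻¹) with he
      have hec := mem_center_iff.1 h2.2
      have he2 : e * e = 1 := (h.cen_iff e h2.1.1).2 h2.1
      have hz2 : z * z = 1 := (h.cen_iff z hz.1).2 hz
      have hzd : g' * d * g'⁻¹ = g * z * g⁻¹ * e := by
        rw [show g * z * g⁻¹ * e = g * z * g⁻¹ * e⁻¹ by rw [inv_eq_of_mul_eq_one_right he2], he]
        group
      calc d * d = g'⁻¹ * (g' * d * g'⁻¹ * (g' * d * g'⁻¹)) * g' := by group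
        _ = g'⁻¹ * (g * z * g⁻¹ * (e * (g * z * g⁻¹)) * e) * g' := by rw [hzd]; group
        _ = g'⁻¹ * (g * (z * z) * g⁻¹ * (e * e)) * g' := by rw [← hec (g * z * g⁻¹)]; group
        _ = 1 := by rw [hz2, he2]; group
    -- the map `z ↦ a z a⁻¹` of `Zb` to itself is onto
    have hbij : ∀ u ∈ Z, π (g' * u * g'⁻¹) ∈ Zb := by
      have hsub : Zb ≤ Zb.map (MulAut.conj a).toMonoidHom := by
        rintro _ ⟨u, hu, rfl⟩
        obtain ⟨-, u', hu', hue⟩ := hlz u hu
        exact ⟨π u', mem_map_of_mem π hu', hue⟩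
      have heq := eq_of_le_of_card_ge hsub (card_map_of_injective (MulAut.conj a).injective).le
      intro u hu
      rw [heq, map_mul, map_mul, map_inv, hg']
      exact ⟨π u, mem_map_of_mem π hu, rfl⟩
    exact hbij d ((h.cen_iff d hd).1 hd2)
  -- `M` is everything
  have hMtop : M = ⊤ := by
    by_contra hMne
    obtain ⟨z₀, hz₀, hz₀0⟩ : ∃ z ∈ Z, z ∉ Z0 := by
      by_contra h0
      push Not at h0
      exact hall fun z hz => (h0 z hz).2
    have hxo : orderOf (π x) = 2 := order_two_of_mul_self (by rw [← map_mul, hπ1]; exact hxx)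
      fun e => hxZ (hπ1.1 e).1
    have hzo : orderOf (π z₀) = 2 := order_two_of_mul_self
      (by rw [← map_mul, hπ1, (h.cen_iff z₀ hz₀.1).2 hz₀]; exact one_mem _) fun e => hz₀0 (hπ1.1 e)
    obtain ⟨w, hw⟩ : ∃ w, w ∉ M := by
      by_contra h0
      push Not at h0
      exact hMne ((Subgroup.eq_top_iff' M).2 h0)
    have hCM : ∀ t ∈ M, orderOf t = 2 → centralizer ({t} : Set (G ⧸ Z0)) ≤ M := by
      intro t ht ho
      have hP : IsPGroup 2 (zpowers (⟨t, ht⟩ : M)) :=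
        IsPGroup.of_card (n := 1) (by rw [pow_one, Nat.card_zpowers, Subgroup.orderOf_mk, ho])
      obtain ⟨P, hP'⟩ := hP.exists_le_sylow
      obtain ⟨m, hm⟩ := MulAction.exists_smul_eq M P (V.subtype hVM)
      have h1 : (m : G ⧸ Z0) * t * (m : G ⧸ Z0)⁻¹ ∈ (V : Subgroup (G ⧸ Z0)) := by
        have h2 : m * (⟨t, ht⟩ : M) * m⁻¹ ∈ (V.subtype hVM : Sylow 2 M) := by
          rw [← hm]; exact ⟨_, hP' (mem_zpowers _), rfl⟩
        exact h2
      intro y hy
      have h2 : (m : G ⧸ Z0) * y * (m : G ⧸ Z0)⁻¹ ∈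
          centralizer ({(m : G ⧸ Z0) * t * (m : G ⧸ Z0)⁻¹} : Set (G ⧸ Z0)) := by
        rw [← centralizer_conj]; exact ⟨y, hy, rfl⟩
      have h3 := mul_mem (mul_mem (inv_mem m.2) (hCall _ h1 (by rw [orderOf_conj', ho]) h2)) m.2
      simpa [mul_assoc] using h3
    -- a conjugate of `π z₀` outside `M`
    set z' := w * π z₀ * w⁻¹ with hz'
    have hzfus : z' ∉ M := by
      intro hz'M
      have hP : IsPGroup 2 (zpowers (⟨z', hz'M⟩ : M)) :=
        IsPGroup.of_card (n := 1) (by rw [pow_one, Nat.card_zpowers, Subgroup.orderOf_mk, hz', orderOf_conj', hzo])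
      obtain ⟨P, hP'⟩ := hP.exists_le_sylow
      obtain ⟨m, hm⟩ := MulAction.exists_smul_eq M P (V.subtype hVM)
      set z'' := (m : G ⧸ Z0) * z' * (m : G ⧸ Z0)⁻¹ with hz''
      have h1 : z'' ∈ (V : Subgroup (G ⧸ Z0)) := by
        have h2 : m * (⟨z', hz'M⟩ : M) * m⁻¹ ∈ (V.subtype hVM : Sylow 2 M) := by
          rw [← hm]; exact ⟨_, hP' (mem_zpowers _), rfl⟩
        exact h2
      obtain ⟨g, hg⟩ := hsurj ((m : G ⧸ Z0) * w)
      have h3 : π (g * z₀ * g⁻¹) = z'' := by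
        rw [map_mul, map_mul, map_inv, hg, hz'', hz']; group
      have h4 : g * z₀ * g⁻¹ ∈ R := hpre _ (h3 ▸ h1)
      have h5 : z'' ∈ Zb := h3 ▸ mem_map_of_mem π ((h.cen_iff _ h4).1 (by
        rw [show g * z₀ * g⁻¹ * (g * z₀ * g⁻¹) = g * (z₀ * z₀) * g⁻¹ by group, (h.cen_iff z₀ hz₀.1).2 hz₀,
          mul_one, mul_inv_cancel]))
      have hVn : ∀ u ∈ Zb, (V : Subgroup (G ⧸ Z0)) ≤ normalizer ({u} : Set (G ⧸ Z0)) := fun u hu y hy => by
        refine Subgroup.mem_set_normalizer_iff.2 fun v => ?_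
        simp only [Set.mem_singleton_iff]
        rw [mul_inv_eq_iff_eq_mul, ← hZbc u hu y hy, mul_right_inj]
      obtain ⟨n, hn, hne'⟩ := Cfsg.Lib.Transfer.burnside_fusion_set V {π z₀} {z''}
        (hVn _ (mem_map_of_mem π hz₀)) (hVn _ h5) ((m : G ⧸ Z0) * w) (by
          simp only [Set.image_singleton, Set.singleton_eq_singleton_iff, hz'', hz']; group)
      simp only [Set.image_singleton, Set.singleton_eq_singleton_iff] at hne'
      have h6 : n⁻¹ * ((m : G ⧸ Z0) * w) ∈ M := by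
        refine hCM _ (hVM (hmemV z₀ (hZR hz₀))) hzo (mem_centralizer_singleton_iff.2 ?_)
        have h7 : (m : G ⧸ Z0) * w * π z₀ * ((m : G ⧸ Z0) * w)⁻¹ = n * π z₀ * n⁻¹ := by
          rw [hne', hz'', hz']; group
        calc n⁻¹ * ((m : G ⧸ Z0) * w) * π z₀
            = n⁻¹ * ((m : G ⧸ Z0) * w * π z₀ * ((m : G ⧸ Z0) * w)⁻¹) * ((m : G ⧸ Z0) * w) := by group
          _ = π z₀ * (n⁻¹ * ((m : G ⧸ Z0) * w)) := by rw [h7]; group
      have h8 := mul_mem (inv_mem m.2) (mul_mem (hNR hn) h6)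
      exact hw (by simpa [mul_assoc] using h8)
    -- `π x` and `z'` are not conjugate
    have heven : Even (orderOf (π x * z')) := by
      rw [← Nat.not_odd_iff_even]
      intro hodd
      obtain ⟨v, hvo, hv, -⟩ := midpoint hxo (by rw [hz', orderOf_conj', hzo]) hodd
      obtain ⟨g, hg⟩ := hsurj (w⁻¹ * v)
      have h1 : π (g * x * g⁻¹) = π z₀ := by
        rw [map_mul, map_mul, map_inv, hg, show (w⁻¹ * v) * π x * (w⁻¹ * v)⁻¹ = w⁻¹ * (v * π x * v⁻¹) * w by group,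
          inv_of_order_two hvo, hv, hz']
        group
      have h2 := QuotientGroup.eq.1 h1
      refine hxZ ((h.cen_iff x hx).1 ?_)
      set e := (g * x * g⁻¹)⁻¹ * z₀ with he
      have hec := mem_center_iff.1 h2.2
      have he2 : e * e = 1 := (h.cen_iff e h2.1.1).2 h2.1
      have hz2 : z₀ * z₀ = 1 := (h.cen_iff z₀ hz₀.1).2 hz₀
      have hzd : g * x * g⁻¹ = z₀ * e := by
        rw [show z₀ * e = z₀ * e⁻¹ by rw [inv_eq_of_mul_eq_one_right he2], he]
        group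
      calc x * x = g⁻¹ * (g * x * g⁻¹ * (g * x * g⁻¹)) * g := by group
        _ = g⁻¹ * (z₀ * (e * z₀) * e) * g := by rw [hzd]; group
        _ = g⁻¹ * ((z₀ * z₀) * (e * e)) * g := by rw [← hec z₀]; group
        _ = 1 := by rw [hz2, he2]; group
    obtain ⟨hu, hux, huz⟩ := central_spec hxo (by rw [hz', orderOf_conj', hzo]) heven
    have huM := hCM _ (hVM (hmemV x hx)) hxo (mem_centralizer_singleton_iff.2 hux.eq)
    exact hzfus (hCM _ huM hu (mem_centralizer_singleton_iff.2 huz.eq.symm))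
  refine normal_of_cen_normal reg S h hO ⟨fun z hz g => ?_⟩
  have hn : π g ∈ M := hMtop ▸ mem_top _
  obtain ⟨z', hz', he⟩ := (mem_normalizer_iff.1 hn (π z)).1 (mem_map_of_mem π hz)
  rw [← map_inv, ← map_mul, ← map_mul] at he
  have h1 := (QuotientGroup.eq.1 he : z'⁻¹ * (g * z * g⁻¹) ∈ Z0).1
  simpa using mul_mem hz' h1

end Cfsg.Lib.BenderSE.Ring2
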