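/-
Finite groups with Sylow 2-subgroups those of `PSU₃(2ⁿ)`, `n ≥ 3` (row 3177), from REG.
-/
import Cfsg.Agent.BenderSE.Ring2.CentralInvolution
import Cfsg.Agent.OddLocal.ProperPLength
import Cfsg.Agent.UFourThreeCover.Field

set_option autoImplicit false
set_option linter.unusedSectionVars false
set_option linter.style.haveILetI false

namespace Cfsg.Lib.BenderSE.Ring2

open Subgroup Cfsg.Lib.InvolCalc Cfsg.Lib.StrongEmb

universe u

variable {G : Type u} [Group G] [Finite G] {q : ℕ}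

/-- the induction statement -/
theorem normal_or_stronglyEmbedded (reg : RegProp.{u}) (S : Sylow 2 G) (h : UType (S : Subgroup G) q)
    (hO : Cfsg.oddCore G = ⊥) : (S : Subgroup G).Normal ∨ ∃ M : Subgroup G, Cfsg.IsStronglyEmbedded M := by
  suffices key : ∀ (n : ℕ) (Y : Type u) [Group Y] [Finite Y] (S : Sylow 2 Y),
      UType (S : Subgroup Y) q → Cfsg.oddCore Y = ⊥ → Nat.card Y = n →
        (S : Subgroup Y).Normal ∨ ∃ M : Subgroup Y, Cfsg.IsStronglyEmbedded M from key _ G S h hO rfl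
  intro n
  induction n using Nat.strong_induction_on with
  | _ n ih =>
  intro G _ _ S h hO hn
  subst hn
  haveI : Fact (Nat.Prime 2) := ⟨Nat.prime_two⟩
  set R := (S : Subgroup G) with hR
  have hsolC : ∀ b ∈ cenOf R, b ≠ 1 → centralizer ({b} : Set G) ≠ ⊤ →
      Group.IsSolvable (centralizer ({b} : Set G)) := by
    intro b hb hb1 hne
    set C := centralizer ({b} : Set G) with hC
    have hRC : R ≤ C := fun x hx => mem_centralizer_singleton_iff.2 (cenOf_comm hb hx)
    set O := Cfsg.oddCore C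
    set π := QuotientGroup.mk' O
    obtain ⟨hq, hqc⟩ := uType_quot (S.subtype hRC) (uType_subgroupOf h hRC) O odd_oddCore
    set T := (S.subtype hRC).mapSurjective (QuotientGroup.mk'_surjective O) with hT
    have hlt : Nat.card (C ⧸ O) < Nat.card G :=
      lt_of_le_of_lt (Nat.card_le_card_of_surjective _ (QuotientGroup.mk'_surjective O))
        (lt_of_le_of_ne (card_le_card_group _) fun e => hne ((card_eq_iff_eq_top _).1 e))
    refine solvable_of_quot O (Cfsg.Agent.PF.isSolvable_of_odd _ odd_oddCore) ?_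
    rcases ih _ hlt (C ⧸ O) T (by rw [hT, Sylow.coe_mapSurjective]; exact hq) oddCore_eq_bot_quot rfl
      with hN | ⟨M, hM⟩
    · exact solvable_of_normal_sylow T hN
    exfalso
    -- `b` is central, so it is the only involution
    have hbC : b ∈ C := hRC hb.1
    have hbo : orderOf b = 2 := order_two_of_mul_self ((h.cen_iff b hb.1).2 hb) hb1
    have hcen : ∀ y : C ⧸ O, y * π ⟨b, hbC⟩ = π ⟨b, hbC⟩ * y := by
      intro y
      obtain ⟨y, rfl⟩ := QuotientGroup.mk'_surjective O y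
      rw [← map_mul, ← map_mul]
      exact congrArg π (Subtype.ext (mem_centralizer_singleton_iff.1 y.2))
    obtain ⟨z, hz, hz1, hzb⟩ : ∃ z ∈ cenOf R, z ≠ 1 ∧ z ≠ b := by
      classical
      haveI := Fintype.ofFinite (cenOf R)
      by_contra h0
      push Not at h0
      have h1 : Nat.card (cenOf R) ≤ 2 := by
        rw [Nat.card_eq_fintype_card]
        refine (Finset.card_le_card (t := ({1, ⟨b, hb⟩} : Finset (cenOf R))) fun w _ => ?_).trans
          Finset.card_le_two
        by_cases hw : (w : G) = 1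
        · simp [Subtype.ext_iff, hw]
        · simp [Subtype.ext_iff, h0 w w.2 hw]
      rw [h.card_cen] at h1
      have := h.big
      omega
    have hord : ∀ w ∈ cenOf R, w ≠ 1 → ∀ hwC : w ∈ C, orderOf (π ⟨w, hwC⟩) = 2 := fun w hw hw1 hwC =>
      order_two_of_mul_self (by
        rw [← map_mul, show (⟨w, hwC⟩ : C) * ⟨w, hwC⟩ = 1 from Subtype.ext ((h.cen_iff w hw.1).2 hw),
          map_one])
        fun e => hw1 (congrArg Subtype.val ((pow_eq_one_iff_quot (S.subtype hRC) O odd_oddCore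
          (show (⟨w, hwC⟩ : C) ∈ (S.subtype hRC : Sylow 2 C) from hw.1)).1 e))
    obtain ⟨g, hg⟩ := isConj_iff.1 (all_conj hM (hord b hb hb1 hbC) (hord z hz hz1 (hRC hz.1)))
    rw [hcen g, mul_inv_cancel_right] at hg
    have h2 : (⟨b, hbC⟩ : C)⁻¹ * ⟨z, hRC hz.1⟩ ∈ O := QuotientGroup.eq.1 hg
    have h3 := eq_one_of_mem_odd (S.subtype hRC) O odd_oddCore
      (show (⟨b, hbC⟩ : C)⁻¹ * ⟨z, hRC hz.1⟩ ∈ (S.subtype hRC : Sylow 2 C) from
        mul_mem (inv_mem (show b ∈ R from hb.1)) hz.1) h2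
    rw [inv_mul_eq_one] at h3
    exact hzb (congrArg Subtype.val h3).symm
  by_cases hne : cenOf R ⊓ center G = ⊥
  swap
  · refine Or.inl (normal_of_central_invol reg S h hO (fun b hb hb' => hsolC b hb ?_ hb') hne)
    rintro rfl
    exact hb' (eq_top_iff.2 fun x _ => mem_centralizer_singleton_iff.2 (by rw [mul_one, one_mul]))
  -- no central involution
  have hinv : ∀ t ∈ R, orderOf t = 2 → t ∈ cenOf R := fun t ht ho =>
    (h.cen_iff t ht).1 (sq_of_order_two ho)
  have hsol : ∀ t : G, orderOf t = 2 → Group.IsSolvable (centralizer ({t} : Set G)) := by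
    refine solvable_centralizers S fun t ht ho => ?_
    refine hsolC t (hinv t ht ho) (fun e => by rw [e, orderOf_one] at ho; omega) fun htop => ?_
    have h1 : t ∈ cenOf R ⊓ center G := ⟨hinv t ht ho, mem_center_iff.2 fun g =>
      mem_centralizer_singleton_iff.1 (htop ▸ mem_top g)⟩
    rw [hne, mem_bot] at h1
    rw [h1, orderOf_one] at ho
    omega
  set M := normalizer (cenOf R : Set G) with hM
  have hNM : normalizer (R : Set G) ≤ M := normalizer_le_normalizer_cenOf R
  have hC : ∀ t ∈ R, orderOf t = 2 → centralizer ({t} : Set G) ≤ M := by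
    intro t ht ho
    have htZ := hinv t ht ho
    obtain ⟨P, hPR, hZP, hCP⟩ := le_normalizer_of_charTwo
      (charTwo_centralizer reg hO h.rank S (UType.connected S h) hsol ho) S
      (fun x hx => mem_centralizer_singleton_iff.2 (cenOf_comm htZ hx)) (cenOf R) (fun z hz => hz.1)
      (fun z hz s hs => cenOf_comm hz hs)
    intro w hw
    refine mem_normalizer_of_maps_to fun z hz => ?_
    have h1 := (mem_normalizer_iff.1 (hCP hw) z).1 (hZP hz)
    exact (h.cen_iff _ (hPR h1)).1 (by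
      rw [show w * z * w⁻¹ * (w * z * w⁻¹) = w * (z * z) * w⁻¹ by group, (h.cen_iff z hz.1).2 hz, mul_one,
        mul_inv_cancel])
  have heven : Even (Nat.card G) := by
    obtain ⟨z, hz, hz1⟩ := h.one_lt_cen
    have ho : orderOf z = 2 := order_two_of_mul_self ((h.cen_iff z hz.1).2 hz) hz1
    exact even_iff_two_dvd.2 (ho ▸ _root_.orderOf_dvd_natCard z)
  have hfus : ∀ t ∈ R, ∀ s ∈ R, orderOf t = 2 → ∀ g : G, g * t * g⁻¹ = s → ∃ n ∈ M, n * t * n⁻¹ = s := by
    intro t ht s hs ho g hg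
    have hso : orderOf s = 2 := by rw [← hg, orderOf_conj', ho]
    have hn : ∀ u ∈ cenOf R, R ≤ normalizer ({u} : Set G) := fun u hu y hy => by
      refine Subgroup.mem_set_normalizer_iff.2 fun v => ?_
      simp only [Set.mem_singleton_iff]
      rw [mul_inv_eq_iff_eq_mul, ← cenOf_comm hu hy, mul_right_inj]
    obtain ⟨n, hn', he⟩ := Cfsg.Lib.Transfer.burnside_fusion_set S {t} {s} (hn t (hinv t ht ho))
      (hn s (hinv s hs hso)) g (by simp only [Set.image_singleton, hg])
    simp only [Set.image_singleton, Set.singleton_eq_singleton_iff] at he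
    exact ⟨n, hNM hn', he⟩
  rcases normal_or_embedded S (le_normalizer.trans hNM) heven hC hfus with hT | hT
  · exact Or.inl (normal_of_cen_normal reg S h hO (normalizer_eq_top_iff.1 hT))
  · exact Or.inr ⟨M, hT⟩

/-- ROW 3177 -/
theorem unitary_sylow_of_reg (reg : RegProp.{u}) (n : ℕ) (hn : 3 ≤ n) {F : Type*} [Field F] [Fintype F]
    (hF : Fintype.card F = 4 ^ n) (S : Sylow 2 G) (P : Sylow 2 (Cfsg.PSU 3 F (2 ^ n)))
    (hS : Nonempty (↥(S : Subgroup G) ≃* ↥(P : Subgroup (Cfsg.PSU 3 F (2 ^ n))))) :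
    (Group.IsSolvable G ∧ Cfsg.PLengthLE 2 1 G) ∨
      ∃ N : Subgroup (G ⧸ Cfsg.oddCore G), N.Normal ∧ Odd N.index ∧
        Nonempty (↥N ≃* Cfsg.PSU 3 F (2 ^ n)) := by
  haveI : Fact (Nat.Prime 2) := ⟨Nat.prime_two⟩
  obtain ⟨e⟩ := hS
  have hF' : Fintype.card F = (2 ^ n) ^ 2 := by rw [hF, ← pow_mul, mul_comm, pow_mul]; norm_num
  have h : UType (S : Subgroup G) (2 ^ n) := UType.of_equiv e (uType_psu hn hF' P)
  set O := Cfsg.oddCore G
  set π := QuotientGroup.mk' O
  obtain ⟨hq, -⟩ := uType_quot S h O odd_oddCore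
  set T := S.mapSurjective (QuotientGroup.mk'_surjective O) with hT
  have hqT : UType (T : Subgroup (G ⧸ O)) (2 ^ n) := by rw [hT, Sylow.coe_mapSurjective]; exact hq
  rcases normal_or_stronglyEmbedded reg T hqT oddCore_eq_bot_quot with hN | ⟨M, hM⟩
  · refine Or.inl ⟨solvable_of_quot O (Cfsg.Agent.PF.isSolvable_of_odd _ odd_oddCore)
      (solvable_of_normal_sylow T hN), ?_⟩
    rw [Cfsg.Lib.OddP.pLengthLE_one_iff]
    haveI := hN
    have hle : (T : Subgroup (G ⧸ O)) ≤ Cfsg.pCore 2 (G ⧸ O) := Cfsg.Lib.Components.le_pCore T.2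
    have hidx : (Cfsg.pPrimePCore 2 G).index ∣ (T : Subgroup (G ⧸ O)).index := by
      show ((Cfsg.pCore 2 (G ⧸ O)).comap π).index ∣ _
      rw [index_comap_of_surjective _ (QuotientGroup.mk'_surjective O)]
      exact index_dvd_of_le hle
    exact Nat.Coprime.coprime_dvd_left hidx
      ((Nat.prime_two.coprime_iff_not_dvd.2 T.not_dvd_index).symm)
  right
  have hrank : HasCommutingInvolutions (G ⧸ O) := hasComm_of_rankAtLeast
    ⟨cenOf (T : Subgroup (G ⧸ O)), UType.cen_comm, fun a ha => hqT.cen_sq ha, by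
      rw [hqT.card_cen]; exact le_trans (by norm_num) hqT.big⟩
  have hset : Setting M := ⟨hM, le_bot_iff.1 ((oddCore_eq_bot_quot (G := G)) ▸
    Cfsg.Lib.Components.le_pPrimeCore (Nat.coprime_two_right.2 (odd_normalCore hM))), hrank⟩
  obtain ⟨L, Q, Fr⟩ := exists_frame reg hset
  obtain ⟨S', hS'⟩ := Fr.sylow
  obtain ⟨g, hg⟩ := MulAction.exists_smul_eq (G ⧸ O) T S'
  have he : (T : Subgroup (G ⧸ O)).map (MulAut.conj g).toMonoidHom = Q := by
    rw [← hS', ← hg]; rfl
  have hQ : UType Q (2 ^ n) := he ▸ hqT.map _ (MulAut.conj g).injective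
  have hcount : Nat.card {i : G ⧸ O // orderOf i = 2 ∧ i ∈ M} + 1 = 2 ^ n := by
    rw [← hQ.card_cen]
    have hset' : (cenOf Q : Set (G ⧸ O)) = insert 1 {i : G ⧸ O | orderOf i = 2 ∧ i ∈ M} := by
      ext i
      constructor
      · intro hi
        refine (em (i = 1)).imp id fun hi1 => ⟨?_, Fr.qle (show i ∈ Q from hi.1)⟩
        exact order_two_of_mul_self ((hQ.cen_iff i hi.1).2 hi) hi1
      · rintro (rfl | ⟨hi, hiM⟩)
        · exact one_mem _
        · exact (hQ.cen_iff i (Fr.qinvol i hi hiM).1).1 (sq_of_order_two hi)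
    rw [← SetLike.coe_sort_coe, hset', Nat.card_coe_set_eq, Set.ncard_insert_of_notMem
      (fun h1 => by simp at h1) (Set.toFinite _), ← Nat.card_coe_set_eq]
    rfl
  obtain ⟨E, iE, iE', hE, ⟨f⟩⟩ := frame_unitary_of_cube Fr hset (by rw [hcount, hQ.card_all])
  refine ⟨L, Fr.normal, Fr.oddIndex, ?_⟩
  have hEF : Fintype.card E = Fintype.card F := by rw [hE, hcount, hF']
  obtain ⟨f'⟩ := Cfsg.Lib.UFourThreeCover.psu_congr (FiniteField.ringEquivOfCardEq (K := E) (K' := F) hEF) 3 (2 ^ n)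
  have key : ∀ r, r = 2 ^ n → Nonempty (L ≃* Cfsg.PSU 3 E r) → Nonempty (L ≃* Cfsg.PSU 3 F (2 ^ n)) := by
    rintro r rfl ⟨k⟩
    exact ⟨k.trans f'⟩
  exact key _ hcount ⟨f⟩

end Cfsg.Lib.BenderSE.Ring2
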